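import Mathlib
import Cfsg.Prelude.Def_Local
import Cfsg.Prelude.Def_OddOrderLocal
import Cfsg.Agent.H320.PCon
import Cfsg.Agent.Classification.LocalCore
import Cfsg.Agent.Lib.CoreCent
import Cfsg.Agent.Lib.KleinGen
import Cfsg.Agent.EvenType.CharTwoCent
import Cfsg.Agent.OddHalf.Small.Generic
import Cfsg.Agent.OddOrderLocal.ScnThree
import Cfsg.Agent.R15.NormalElem
import Cfsg.Prelude.Def_CaseTheorems
import Cfsg.Agent.Classification.NonComponent
import Cfsg.Agent.FastGrp
import Cfsg.Agent.Prune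
set_option linter.all false

section
prune_inst 0x7f00000000000000000000000000000000000000000000000000000000000000000000000000000000000000000000000000000000000000000000000000000000000000000000000000000000000000003fffffffffffffffffffffffffffbeffbdffffffff

-- part: H320/EarlyChar
section
set_option linter.all false
open scoped Cfsg.Agent.FastGrp

/-!
"Early" characteristic 2 type: a Sylow 2-subgroup `S` has a member of `SCN(S)` of rank at least three,
`S` normalizes no nontrivial subgroup of odd order and all 2-local subgroups are 2-constrained.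
Then `G` is of characteristic 2 type.
-/

set_option autoImplicit false

namespace Cfsg.Agent.H320.EarlyChar

open Subgroup Cfsg.Agent.PLocal.PConstrained Cfsg.Agent.PLocal.PConstrainedLocal

theorem le_ker_of_charP {X Y : Type*} [Group X] [Finite X] [Group Y] (p : ℕ) [Fact p.Prime]
    (f : X →* Y) (hf : Function.Surjective f) (hk : (Nat.card f.ker).Coprime p)
    (hch : centralizer (pCore p Y : Set Y) ≤ pCore p Y) {Q D : Subgroup X} (hQ : IsPGroup p Q)
    (hD : (Nat.card D).Coprime p) (hDQ : D ≤ centralizer (Q : Set X))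
    (hn : centralizer (Q : Set X) ≤ normalizer (D : Set X)) : D ≤ f.ker := by
  have : Finite Y := Finite.of_surjective f hf
  have h1 : D.map f = ⊥ := by
    refine Classification.LocalCore.eq_bot_of_le_centralizer p hch (Q.map f) (D.map f) (hQ.map f)
      ?_ ?_ ?_
    · exact Nat.Coprime.coprime_dvd_left (Cfsg.Agent.PLocal.PConstrained.card_map_dvd f D) hD
    · rw [← map_centralizer_eq f hf hk hQ]
      exact Subgroup.map_mono hDQ
    · rw [← map_centralizer_eq f hf hk hQ]
      exact (Subgroup.map_mono hn).trans (Subgroup.le_normalizer_map f)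
  exact (Subgroup.map_eq_bot_iff D).mp h1

/-- `X` `p`-constrained, `Q` a `p`-subgroup: a `p'`-subgroup of `C_X(Q)` normalized by `C_X(Q)` lies
in `O_{p'}(X)`. -/
theorem le_pPrimeCore_of_constrained {X : Type*} [Group X] [Finite X] (p : ℕ) [Fact p.Prime]
    (hX : Cfsg.IsPConstrained p X) {Q D : Subgroup X} (hQ : IsPGroup p Q)
    (hD : (Nat.card D).Coprime p) (hDQ : D ≤ centralizer (Q : Set X))
    (hn : centralizer (Q : Set X) ≤ normalizer (D : Set X)) : D ≤ pPrimeCore p X := by
  have hk : (Nat.card (QuotientGroup.mk' (pPrimeCore p X)).ker).Coprime p := by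
    rw [QuotientGroup.ker_mk']
    exact coprime_card_pPrimeCore p X
  have h1 := le_ker_of_charP p (QuotientGroup.mk' (pPrimeCore p X)) (QuotientGroup.mk'_surjective _)
    hk (isPConstrained_iff.mp hX) hQ hD hDQ hn
  rwa [QuotientGroup.ker_mk'] at h1

/-- `O_{p'}(C_G(a)) ∩ C_G(b) ≤ O_{p'}(C_G(b))` for commuting `a`, `b`, `a` a `p`-element, `C_G(b)`
`p`-constrained. -/
theorem balance {G : Type*} [Group G] [Finite G] (p : ℕ) [Fact p.Prime] {a b : G}
    (ha : IsPGroup p (zpowers a)) (hab : a * b = b * a)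
    (hb : Cfsg.IsPConstrained p ↥(centralizer ({b} : Set G))) :
    centralizerPPrimeCore p a ⊓ centralizer ({b} : Set G) ≤ centralizerPPrimeCore p b := by
  set C := centralizer ({b} : Set G) with hC
  have haC : a ∈ C := by rw [hC, mem_centralizer_singleton_iff]; exact hab
  have hle : centralizerPPrimeCore p a ≤ centralizer ({a} : Set G) := Lib.CoreCent.core_le p a
  have key : (centralizerPPrimeCore p a ⊓ C).subgroupOf C ≤ pPrimeCore p ↥C := by
    refine le_pPrimeCore_of_constrained p hb (Q := (zpowers a).subgroupOf C) ha.comap_subtype ?_ ?_ ?_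
    · rw [Nat.card_congr (subgroupOfEquivOfLe (inf_le_right : centralizerPPrimeCore p a ⊓ C ≤ C)).toEquiv]
      have h1 : (Nat.card (centralizerPPrimeCore p a)).Coprime p :=
        ((Nat.Prime.coprime_iff_not_dvd Fact.out).mpr (Lib.CoreCent.core_card p a)).symm
      exact Nat.Coprime.coprime_dvd_left (Subgroup.card_dvd_of_le inf_le_left) h1
    · intro x hx
      rw [mem_centralizer_iff]
      intro y hy
      have hx' : (x : G) ∈ centralizer ({a} : Set G) := hle (mem_subgroupOf.mp hx).1
      have hy' : (y : G) ∈ zpowers a := mem_subgroupOf.mp hy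
      obtain ⟨k, hk⟩ := mem_zpowers_iff.mp hy'
      apply Subtype.ext
      have h2 : Commute (x : G) a := mem_centralizer_singleton_iff.mp hx'
      have h3 : Commute (x : G) (y : G) := by rw [← hk]; exact h2.zpow_right k
      exact h3.eq.symm
    · intro x hx
      have hxa : (x : G) ∈ centralizer ({a} : Set G) := by
        rw [mem_centralizer_singleton_iff]
        have := mem_centralizer_iff.mp hx ⟨a, haC⟩ (mem_subgroupOf.mpr (mem_zpowers a))
        exact (congrArg Subtype.val this).symm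
      have h1 : (x : G) ∈ normalizer (centralizerPPrimeCore p a : Set G) :=
        Lib.CoreCent.core_normalized p a hxa
      rw [mem_normalizer_iff] at h1 ⊢
      intro y
      rw [mem_subgroupOf, mem_subgroupOf, mem_inf, mem_inf]
      exact ⟨fun h => ⟨(h1 y).mp h.1, (x * y * x⁻¹).2⟩, fun h => ⟨(h1 y).mpr h.1, y.2⟩⟩
  intro x hx
  have h1 := key (mem_subgroupOf.mpr (show ((⟨x, hx.2⟩ : C) : G) ∈ centralizerPPrimeCore p a ⊓ C from hx))
  exact ⟨_, h1, rfl⟩

/-- The fixed points of an involutory (or trivial) action by conjugation on an elementary abelian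
2-group: `|E| ≤ |C_E(t)|²`. -/
theorem card_le_sq {G : Type*} [Group G] [Finite G] {E : Subgroup G} {t : G}
    (hEc : ∀ a ∈ E, ∀ b ∈ E, a * b = b * a) (hE2 : ∀ a ∈ E, a * a = 1)
    (ht : t * t = 1) (hEt : ∀ a ∈ E, t * a * t⁻¹ ∈ E) :
    Nat.card E ≤ Nat.card ↥(E ⊓ centralizer ({t} : Set G)) * Nat.card ↥(E ⊓ centralizer ({t} : Set G)) := by
  have hti : t⁻¹ = t := inv_eq_of_mul_eq_one_right ht
  let φ : E →* E :=
    { toFun := fun e => ⟨e * (t * e * t⁻¹), E.mul_mem e.2 (hEt e e.2)⟩
      map_one' := by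
        refine Subtype.ext ?_
        show (1 : G) * (t * 1 * t⁻¹) = 1
        group
      map_mul' := by
        intro x y
        refine Subtype.ext ?_
        show (x * y : G) * (t * (x * y) * t⁻¹) = (x * (t * x * t⁻¹)) * (y * (t * y * t⁻¹))
        have h1 : (y : G) * (t * x * t⁻¹) = (t * x * t⁻¹) * y := hEc _ y.2 _ (hEt x x.2)
        calc (x * y : G) * (t * (x * y) * t⁻¹) = x * (y * (t * x * t⁻¹)) * (t * y * t⁻¹) := by group
          _ = (x * (t * x * t⁻¹)) * (y * (t * y * t⁻¹)) := by rw [h1]; group }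
  have hφ : ∀ e : E, ((φ e : E) : G) = e * (t * e * t⁻¹) := fun _ => rfl
  have h1 : Nat.card E = Nat.card φ.ker * Nat.card φ.range := by
    rw [← Subgroup.index_ker, Subgroup.card_mul_index]
  have hker : Nat.card φ.ker ≤ Nat.card ↥(E ⊓ centralizer ({t} : Set G)) := by
    refine Nat.card_le_card_of_injective (fun x : φ.ker => ⟨((x : E) : G), (x : E).2, ?_⟩) ?_
    · have h2 : ((x : E) : G) * (t * ((x : E) : G) * t⁻¹) = 1 := by
        rw [← hφ, MonoidHom.mem_ker.mp x.2]; rfl
      refine mem_centralizer_singleton_iff.mpr ?_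
      have h3 : t * ((x : E) : G) * t⁻¹ = ((x : E) : G) := by
        have h4 := hE2 _ (x : E).2
        exact mul_left_cancel (h2.trans h4.symm)
      exact (mul_inv_eq_iff_eq_mul.mp h3).symm
    · intro a b hab
      have h5 : ((a : E) : G) = ((b : E) : G) := Subtype.mk.inj hab
      exact Subtype.ext (Subtype.ext h5)
  have hrange : Nat.card φ.range ≤ Nat.card ↥(E ⊓ centralizer ({t} : Set G)) := by
    refine Nat.card_le_card_of_injective (fun x : φ.range => ⟨((x : E) : G), (x : E).2, ?_⟩) ?_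
    · obtain ⟨e, he⟩ := x.2
      have h2 : ((x : E) : G) = e * (t * e * t⁻¹) := by rw [← hφ, he]
      refine mem_centralizer_singleton_iff.mpr ?_
      rw [h2]
      have h3 : (e : G) * (t * e * t⁻¹) = (t * e * t⁻¹) * e := hEc _ e.2 _ (hEt e e.2)
      calc (e : G) * (t * e * t⁻¹) * t = e * t * e * (t⁻¹ * t) := by group
        _ = e * t * e := by group
        _ = t⁻¹ * t⁻¹ * e * t * e := by rw [hti, ht]; group
        _ = t⁻¹ * ((t * e * t⁻¹) * e) := by rw [hti]; group
        _ = t * (e * (t * e * t⁻¹)) := by rw [← h3, hti]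
    · intro a b hab
      have h5 : ((a : E) : G) = ((b : E) : G) := Subtype.mk.inj hab
      exact Subtype.ext (Subtype.ext h5)
  rw [h1]
  exact Nat.mul_le_mul hker hrange

section main

variable {G : Type*} [Group G] [Finite G]

theorem isPGroup_zpowers {t : G} (ht : t * t = 1) : IsPGroup 2 (zpowers t) := by
  by_cases h1 : t = 1
  · subst h1
    rw [zpowers_one_eq_bot]
    exact IsPGroup.of_bot
  · have h2 : orderOf t = 2 := orderOf_eq_prime (by rw [pow_two]; exact ht) h1
    exact IsPGroup.of_card (n := 1) (by rw [Nat.card_zpowers, h2, pow_one])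

/-- 2-constraint of the centralizers of involutions. -/
theorem constrained_centralizer
    (hcon : ∀ T : Subgroup G, IsPGroup 2 ↥T → T ≠ ⊥ →
      Cfsg.IsPConstrained 2 ↥(Subgroup.normalizer (T : Set G)))
    {t : G} (ht : t * t = 1) (ht1 : t ≠ 1) :
    Cfsg.IsPConstrained 2 ↥(centralizer ({t} : Set G)) := by
  have h := hcon (zpowers t) (isPGroup_zpowers ht) (fun h => ht1 (zpowers_eq_bot.mp h))
  rwa [EvenType.CharTwoCent.normalizer_zpowers_eq ht] at h

/-- A member of `SCN(S)` of rank at least three contains an elementary abelian subgroup of order at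
least eight normalized by `S`. -/
theorem exists_elementary {S : Sylow 2 G} {A : Subgroup G}
    (hA : Cfsg.IsSCN (S : Subgroup G) A) (hA3 : ¬ Cfsg.PRankLE 2 2 ↥A) :
    ∃ E : Subgroup G, E ≤ A ∧ (∀ a ∈ E, ∀ b ∈ E, a * b = b * a) ∧ (∀ a ∈ E, a * a = 1) ∧
      8 ≤ Nat.card E ∧ ∀ s ∈ (S : Subgroup G), ∀ a ∈ E, s * a * s⁻¹ ∈ E := by
  have hcomm : IsMulCommutative A := OddOrderLocal.ScnThree.isSCN_isMulCommutative hA
  have hc : ∀ a ∈ A, ∀ b ∈ A, a * b = b * a := fun a ha b hb =>
    congrArg Subtype.val (hcomm.is_comm.comm ⟨a, ha⟩ ⟨b, hb⟩)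
  let E : Subgroup G :=
    { carrier := {x | x ∈ A ∧ x * x = 1}
      one_mem' := ⟨A.one_mem, one_mul 1⟩
      mul_mem' := by
        rintro x y ⟨hx, hx2⟩ ⟨hy, hy2⟩
        refine ⟨A.mul_mem hx hy, ?_⟩
        calc x * y * (x * y) = x * (y * x) * y := by group
          _ = (x * x) * (y * y) := by rw [hc y hy x hx]; group
          _ = 1 := by rw [hx2, hy2, one_mul]
      inv_mem' := by
        rintro x ⟨hx, hx2⟩
        exact ⟨A.inv_mem hx, by rw [← mul_inv_rev, hx2, inv_one]⟩ }
  have hEA : E ≤ A := fun x hx => hx.1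
  refine ⟨E, hEA, fun a ha b hb => hc a ha.1 b hb.1, fun a ha => ha.2, ?_, ?_⟩
  · have hgt : 4 < Nat.card E := by
      unfold Cfsg.PRankLE at hA3
      push Not at hA3
      obtain ⟨D, -, hD2, hD⟩ := hA3
      refine lt_of_lt_of_le (by simpa using hD) ?_
      refine Nat.card_le_card_of_injective
        (fun e : D => (⟨((e : A) : G), (e : A).2, ?_⟩ : E)) ?_
      · have h1 : ((e : A) : G) ^ 2 = 1 := congrArg Subtype.val (hD2 (e : A) e.2)
        rw [← pow_two]; exact h1
      · intro a b hab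
        have : ((a : A) : G) = ((b : A) : G) := Subtype.mk.inj hab
        exact Subtype.ext (Subtype.ext this)
    have hp : IsPGroup 2 E := S.isPGroup'.to_le (hEA.trans hA.1)
    have : Fact (Nat.Prime 2) := ⟨Nat.prime_two⟩
    obtain ⟨n, hn⟩ := IsPGroup.iff_card.mp hp
    rw [hn] at hgt ⊢
    have h3 : 3 ≤ n := by
      by_contra hcon
      push Not at hcon
      have : 2 ^ n ≤ 2 ^ 2 := Nat.pow_le_pow_right (by norm_num) (by omega)
      omega
    calc 8 = 2 ^ 3 := by norm_num
      _ ≤ 2 ^ n := Nat.pow_le_pow_right (by norm_num) h3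
  · rintro s hs a ⟨ha, ha2⟩
    refine ⟨(mem_normalizer_iff.mp (hA.2.1 hs) a).mp ha, ?_⟩
    calc s * a * s⁻¹ * (s * a * s⁻¹) = s * (a * a) * s⁻¹ := by group
      _ = 1 := by rw [ha2]; group

/-- **The cores of the centralizers of involutions are trivial.** -/
theorem core_eq_bot (hFT : ∀ X : Subgroup G, Odd (Nat.card X) → Group.IsSolvable X)
    (S : Sylow 2 G) (A : Subgroup G) (hA : Cfsg.IsSCN (S : Subgroup G) A)
    (hA3 : ¬ Cfsg.PRankLE 2 2 ↥A)
    (hinv : ∀ X : Subgroup G, Odd (Nat.card ↥X) → (S : Subgroup G) ≤ Subgroup.normalizer (X : Set G) →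
      X = ⊥)
    (hcon : ∀ T : Subgroup G, IsPGroup 2 ↥T → T ≠ ⊥ →
      Cfsg.IsPConstrained 2 ↥(Subgroup.normalizer (T : Set G))) :
    ∀ t : G, orderOf t = 2 → centralizerPPrimeCore 2 t = ⊥ := by
  have hF : Fact (Nat.Prime 2) := ⟨Nat.prime_two⟩
  obtain ⟨E, hEA, hEc, hE2, hE8, hES⟩ := exists_elementary hA hA3
  have hES' : E ≤ (S : Subgroup G) := hEA.trans hA.1
  have hbal : ∀ a b : G, a * a = 1 → b * b = 1 → b ≠ 1 → a * b = b * a →
      centralizerPPrimeCore 2 a ⊓ centralizer ({b} : Set G) ≤ centralizerPPrimeCore 2 b := by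
    intro a b ha hb hb1 hab
    exact balance 2 (isPGroup_zpowers ha) hab (constrained_centralizer hcon hb hb1)
  have hodd : ∀ a : G, Odd (Nat.card (centralizerPPrimeCore 2 a)) := by
    intro a
    rw [← Nat.not_even_iff_odd, even_iff_two_dvd]
    exact Lib.CoreCent.core_card 2 a
  -- the signalizer functor theorem
  obtain ⟨hW, hW'⟩ := SignalizersComponents.SFTwo.result E hEc
    (fun a ha => by rw [pow_two]; exact hE2 a ha) (by simpa using hE8)
    (fun a => centralizerPPrimeCore 2 a) (fun a _ _ => Lib.CoreCent.core_le 2 a)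
    (fun a _ _ => Lib.CoreCent.core_card 2 a)
    (by
      intro a ha ha1 b hb x hx
      have h1 : b ∈ centralizer ({a} : Set G) := mem_centralizer_singleton_iff.mpr (hEc b hb a ha)
      exact (mem_normalizer_iff.mp (Lib.CoreCent.core_normalized 2 a h1) x).mp hx)
    (fun a _ _ => hFT _ (hodd a))
    (fun a ha ha1 b hb hb1 => hbal a b (hE2 a ha) (hE2 b hb) hb1 (hEc a ha b hb))
  set W := ⨆ a : {a : G // a ∈ E ∧ a ≠ 1}, centralizerPPrimeCore 2 (a : G) with hWdef
  have hWS : (S : Subgroup G) ≤ normalizer (W : Set G) := by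
    intro s hs
    have key : ∀ s ∈ (S : Subgroup G), W.map (MulAut.conj s).toMonoidHom ≤ W := by
      intro s hs
      rw [hWdef, Subgroup.map_iSup]
      refine iSup_le ?_
      rintro ⟨a, ha, ha1⟩
      have h1 : s * a * s⁻¹ ∈ E := hES s hs a ha
      have h2 : s * a * s⁻¹ ≠ 1 := by
        intro h
        apply ha1
        have : a = s⁻¹ * (s * a * s⁻¹) * s := by group
        rw [this, h]; group
      have h3 := Lib.CoreCent.core_conj 2 a s
      change (centralizerPPrimeCore 2 a).map (MulAut.conj s).toMonoidHom ≤ _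
      rw [← h3]
      exact le_iSup (fun a : {a : G // a ∈ E ∧ a ≠ 1} => centralizerPPrimeCore 2 (a : G))
        ⟨s * a * s⁻¹, h1, h2⟩
    refine Subgroup.mem_normalizer_fintype ?_
    intro x hx
    exact key s hs ⟨x, hx, rfl⟩
  have hW1 : W = ⊥ := by
    refine hinv W ?_ hWS
    rw [← Nat.not_even_iff_odd, even_iff_two_dvd]
    exact hW
  have hEcore : ∀ a ∈ E, a ≠ 1 → centralizerPPrimeCore 2 a = ⊥ := by
    intro a ha ha1
    rw [← hW' a ha ha1, hW1, bot_inf_eq]
  -- an arbitrary involution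
  have hSt : ∀ t ∈ (S : Subgroup G), t * t = 1 → t ≠ 1 → centralizerPPrimeCore 2 t = ⊥ := by
    intro t htS ht ht1
    have h1 := card_le_sq hEc hE2 ht (hES t htS)
    have h3 : 3 ≤ Nat.card ↥(E ⊓ centralizer ({t} : Set G)) := by
      by_contra hcon
      push Not at hcon
      have h4 : Nat.card ↥(E ⊓ centralizer ({t} : Set G)) ≤ 2 := by omega
      have h5 := Nat.mul_le_mul h4 h4
      omega
    -- two different nontrivial elements
    obtain ⟨a, ha, ha1⟩ : ∃ a ∈ E ⊓ centralizer ({t} : Set G), a ≠ 1 := by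
      by_contra hcon
      push Not at hcon
      have : E ⊓ centralizer ({t} : Set G) = ⊥ := (Subgroup.eq_bot_iff_forall _).mpr hcon
      rw [this, Subgroup.card_bot] at h3
      omega
    obtain ⟨b, hb, hb1, hba⟩ : ∃ b ∈ E ⊓ centralizer ({t} : Set G), b ≠ 1 ∧ b ≠ a := by
      by_contra hcon
      push Not at hcon
      have h4 : Nat.card ↥(E ⊓ centralizer ({t} : Set G)) ≤ 2 := by
        have h5 : ((E ⊓ centralizer ({t} : Set G) : Subgroup G) : Set G) ⊆ ({1, a} : Set G) := by
          intro x hx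
          by_cases hx1 : x = 1
          · exact Or.inl hx1
          · exact Or.inr (hcon x hx hx1)
        calc Nat.card ↥(E ⊓ centralizer ({t} : Set G))
            = ((E ⊓ centralizer ({t} : Set G) : Subgroup G) : Set G).ncard := rfl
          _ ≤ ({1, a} : Set G).ncard := Set.ncard_le_ncard h5 (Set.toFinite _)
          _ ≤ 2 := (Set.ncard_insert_le _ _).trans (by rw [Set.ncard_singleton])
      omega
    have hat : a * t = t * a := mem_centralizer_singleton_iff.mp ha.2
    have hbt : b * t = t * b := mem_centralizer_singleton_iff.mp hb.2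
    have haE : a ∈ E := ha.1
    have hbE : b ∈ E := hb.1
    have hab1 : a * b ≠ 1 := by
      intro h
      apply hba
      have : a * b = a * a := by rw [h, hE2 a haE]
      exact mul_left_cancel this
    have hnorm : ∀ c : G, c * t = t * c → ∀ x ∈ centralizerPPrimeCore 2 t,
        c * x * c⁻¹ ∈ centralizerPPrimeCore 2 t := by
      intro c hc x hx
      exact (mem_normalizer_iff.mp (Lib.CoreCent.core_normalized 2 t
        (mem_centralizer_singleton_iff.mpr hc)) x).mp hx
    rw [← le_bot_iff]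
    refine Lib.KleinGen.le_of_klein (centralizerPPrimeCore 2 t) ⊥ (hodd t) a b (hE2 a haE)
      (hE2 b hbE) (hEc a haE b hbE) (hnorm a hat) (hnorm b hbt) ?_ ?_ ?_
    · rw [← hEcore a haE ha1]
      exact hbal t a ht (hE2 a haE) ha1 hat.symm
    · rw [← hEcore b hbE hb1]
      exact hbal t b ht (hE2 b hbE) hb1 hbt.symm
    · rw [← hEcore (a * b) (E.mul_mem haE hbE) hab1]
      refine hbal t (a * b) ht (hE2 _ (E.mul_mem haE hbE)) hab1 ?_
      rw [← mul_assoc, ← hat, mul_assoc, ← hbt, mul_assoc]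
  intro t ht
  have htt : t * t = 1 := by rw [← pow_two, ← ht, pow_orderOf_eq_one]
  have ht1 : t ≠ 1 := by
    rintro rfl
    simp at ht
  obtain ⟨R, hR⟩ := (isPGroup_zpowers htt).exists_le_sylow
  obtain ⟨g, hg⟩ := MulAction.exists_smul_eq G R S
  have htR : t ∈ (R : Subgroup G) := hR (mem_zpowers t)
  have hgt : g * t * g⁻¹ ∈ (S : Subgroup G) := by
    rw [← hg, Sylow.coe_subgroup_smul]
    exact Subgroup.smul_mem_pointwise_smul _ (MulAut.conj g) _ htR
  have h1 := hSt (g * t * g⁻¹) hgt (by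
    calc g * t * g⁻¹ * (g * t * g⁻¹) = g * (t * t) * g⁻¹ := by group
      _ = 1 := by rw [htt]; group) (by
    intro h
    apply ht1
    have : t = g⁻¹ * (g * t * g⁻¹) * g := by group
    rw [this, h]; group)
  rw [Lib.CoreCent.core_conj] at h1
  exact (Subgroup.map_eq_bot_iff_of_injective _ (MulAut.conj g).injective).mp h1

/-- **Early characteristic 2 type implies characteristic 2 type.** -/
theorem isCharacteristicTwoType (hFT : ∀ X : Subgroup G, Odd (Nat.card X) → Group.IsSolvable X)
    (S : Sylow 2 G) (A : Subgroup G) (hA : Cfsg.IsSCN (S : Subgroup G) A)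
    (hA3 : ¬ Cfsg.PRankLE 2 2 ↥A)
    (hinv : ∀ X : Subgroup G, Odd (Nat.card ↥X) → (S : Subgroup G) ≤ Subgroup.normalizer (X : Set G) →
      X = ⊥)
    (hcon : ∀ T : Subgroup G, IsPGroup 2 ↥T → T ≠ ⊥ →
      Cfsg.IsPConstrained 2 ↥(Subgroup.normalizer (T : Set G))) :
    Cfsg.IsCharacteristicTwoType G := by
  have hF : Fact (Nat.Prime 2) := ⟨Nat.prime_two⟩
  have hcore := core_eq_bot hFT S A hA hA3 hinv hcon
  refine OddHalf.Small.Generic.isCharacteristicTwoType_of_centralizers ?_ ?_
  · obtain ⟨E, hEA, -, -, hE8, -⟩ := exists_elementary hA hA3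
    have h1 : IsPGroup 2 E := S.isPGroup'.to_le (hEA.trans hA.1)
    obtain ⟨n, hn⟩ := IsPGroup.iff_card.mp h1
    have h2 : 2 ∣ Nat.card E := by
      rw [hn]
      refine dvd_pow_self 2 ?_
      rintro rfl
      rw [hn] at hE8
      norm_num at hE8
    exact even_iff_two_dvd.mpr (h2.trans (Subgroup.card_subgroup_dvd_card E))
  · intro t ht
    have htt : t * t = 1 := by rw [← pow_two, ← ht, pow_orderOf_eq_one]
    have ht1 : t ≠ 1 := by
      rintro rfl
      simp at ht
    have h1 := constrained_centralizer hcon htt ht1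
    have h2 := hcore t ht
    unfold centralizerPPrimeCore at h2
    have h3 := (Subgroup.map_eq_bot_iff_of_injective _ (Subgroup.subtype_injective _)).mp h2
    exact (isPConstrained_iff_of_pPrimeCore_eq_bot h3).mp h1

end main

end Cfsg.Agent.H320.EarlyChar
end

-- part: H447/CoreW
section
set_option linter.all false
open scoped Cfsg.Agent.FastGrp

/-!
# The completion of `a ↦ O(C(a))` when all 2-local subgroups are 2-constrained

A Sylow 2-subgroup with a self-centralizing abelian normal subgroup of 2-rank at least 3.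
-/

set_option autoImplicit false

namespace Cfsg.Agent.H447.CoreW

open Subgroup Cfsg
open Cfsg.Agent.Classification.NonComponent
open Cfsg.Agent.S0520

/-- An abelian subgroup `A` of 2-rank at least 3 contains an elementary abelian subgroup of order at least 8,
characteristic in `A`. -/
theorem exists_omega {P : Type*} [Group P] [Finite P] (hP : IsPGroup 2 P) (A : Subgroup P) (hAn : A.Normal)
    (hAab : IsMulCommutative ↥A) (hA3 : ¬ Cfsg.PRankLE 2 2 ↥A) :
    ∃ E : Subgroup P, E.Normal ∧ IsMulCommutative E ∧ (∀ e ∈ E, e ^ 2 = 1) ∧ 8 ≤ Nat.card E := by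
  have hcomm : ∀ a ∈ A, ∀ b ∈ A, a * b = b * a := fun a ha b hb => setLike_mul_comm ha hb
  let E : Subgroup P :=
    { carrier := {x | x ∈ A ∧ x * x = 1}
      one_mem' := ⟨A.one_mem, one_mul 1⟩
      mul_mem' := by
        rintro a b ⟨ha, ha2⟩ ⟨hb, hb2⟩
        refine ⟨A.mul_mem ha hb, ?_⟩
        calc a * b * (a * b) = a * (b * a) * b := by group
          _ = a * (a * b) * b := by rw [hcomm b hb a ha]
          _ = (a * a) * (b * b) := by group
          _ = 1 := by rw [ha2, hb2, one_mul]
      inv_mem' := by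
        rintro a ⟨ha, ha2⟩
        refine ⟨A.inv_mem ha, ?_⟩
        rw [← mul_inv_rev, ha2, inv_one] }
  refine ⟨E, ⟨?_⟩, ?_, ?_, ?_⟩
  · rintro x ⟨hx, hx2⟩ g
    refine ⟨hAn.conj_mem x hx g, ?_⟩
    calc g * x * g⁻¹ * (g * x * g⁻¹) = g * (x * x) * g⁻¹ := by group
      _ = 1 := by rw [hx2]; group
  · exact IsMulCommutative.of_setLike_mul_comm fun a ha b hb => hcomm a ha.1 b hb.1
  · intro e he
    rw [pow_two]; exact he.2
  · have hgt : 4 < Nat.card E := by
      unfold Cfsg.PRankLE at hA3
      push Not at hA3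
      obtain ⟨D, -, hD2, hD⟩ := hA3
      refine lt_of_lt_of_le (by simpa using hD) ?_
      refine Nat.card_le_card_of_injective
        (fun e : D => (⟨((e : A) : P), (e : A).2, ?_⟩ : E)) ?_
      · have h1 : ((e : A) : P) ^ 2 = 1 := congrArg Subtype.val (hD2 (e : A) e.2)
        rw [← pow_two]; exact h1
      · intro a b hab
        have : ((a : A) : P) = ((b : A) : P) := Subtype.mk.inj hab
        exact Subtype.ext (Subtype.ext this)
    have : Fact (Nat.Prime 2) := ⟨Nat.prime_two⟩
    obtain ⟨n, hn⟩ := IsPGroup.iff_card.mp (hP.to_subgroup E)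
    rw [hn] at hgt ⊢
    have h3 : 3 ≤ n := by
      by_contra hcon
      push Not at hcon
      have : 2 ^ n ≤ 2 ^ 2 := Nat.pow_le_pow_right (by norm_num) (by omega)
      omega
    calc 8 = 2 ^ 3 := by norm_num
      _ ≤ 2 ^ n := Nat.pow_le_pow_right (by norm_num) h3

variable {G : Type*} [Group G] [Finite G]

/-- All Sylow 2-subgroups are 4-connected. -/
theorem fourConnected (S : Sylow 2 G) (A : Subgroup ↥(S : Subgroup G)) (hAn : A.Normal)
    (hAab : IsMulCommutative ↥A) (hA3 : ¬ Cfsg.PRankLE 2 2 ↥A) (S' : Sylow 2 G) :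
    IsFourConnected (S' : Subgroup G) ∧ ∃ E : Subgroup G, E ≤ (S' : Subgroup G) ∧
      IsElementaryAbelian 2 E ∧ 2 ^ 3 ≤ Nat.card E := by
  have : Fact (Nat.Prime 2) := ⟨Nat.prime_two⟩
  obtain ⟨E, hEn, hEc, hE2, hE8⟩ := exists_omega S.isPGroup' A hAn hAab hA3
  let e : (S : Subgroup G) ≃* (S' : Subgroup G) := Sylow.equiv S S'
  have hcomm : ∀ a ∈ E, ∀ b ∈ E, a * b = b * a := fun a ha b hb => setLike_mul_comm ha hb
  have hn : (E.map e.toMonoidHom).Normal := hEn.map _ e.surjective
  have hc : ∀ a ∈ E.map e.toMonoidHom, ∀ b ∈ E.map e.toMonoidHom, a * b = b * a := by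
    rintro _ ⟨a, ha, rfl⟩ _ ⟨b, hb, rfl⟩
    rw [← map_mul, ← map_mul, hcomm a ha b hb]
  have h2 : ∀ a ∈ E.map e.toMonoidHom, a ^ 2 = 1 := by
    rintro _ ⟨a, ha, rfl⟩
    rw [← map_pow, hE2 a ha, map_one]
  have h8 : 8 ≤ Nat.card (E.map e.toMonoidHom) := by
    rw [Subgroup.card_map_of_injective e.injective]
    exact hE8
  refine ⟨Cfsg.Agent.S0502.result S'.isPGroup' (E.map e.toMonoidHom)
    (IsMulCommutative.of_setLike_mul_comm hc) h2 h8,
    (E.map e.toMonoidHom).map (S' : Subgroup G).subtype, map_subtype_le _, ⟨?_, ?_⟩, ?_⟩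
  · refine IsMulCommutative.of_setLike_mul_comm ?_
    rintro _ ⟨a, ha, rfl⟩ _ ⟨b, hb, rfl⟩
    rw [← map_mul, ← map_mul, hc a ha b hb]
  · rintro _ ⟨a, ha, rfl⟩
    rw [← map_pow, h2 a ha, map_one]
  · rw [Subgroup.card_map_of_injective (Subgroup.subtype_injective _)]
    exact h8

/-- `O(G) = 1` for a non-abelian finite simple group. -/
theorem oddCore_eq_bot [IsSimpleGroup G] (hFT : ∀ X : Subgroup G, Odd (Nat.card X) → Group.IsSolvable X)
    (hG : ¬ IsMulCommutative G) : Cfsg.oddCore G = ⊥ := by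
  have hn : (Cfsg.oddCore G).Normal := inferInstance
  rcases hn.eq_bot_or_eq_top with h | h
  · exact h
  · exfalso
    have h1 : Odd (Nat.card (Cfsg.oddCore G)) := by
      have := Lib.Cores.pPrimeCore_coprime (G := G) 2
      exact Nat.coprime_two_right.1 this
    have h2 := hFT _ h1
    rw [h] at h2
    have h3 : Group.IsSolvable G := by
      exact Group.isSolvable_of_surjective (f := (Subgroup.topEquiv (G := G)).toMonoidHom)
        (Subgroup.topEquiv (G := G)).surjective
    exact hG ⟨⟨(IsSimpleGroup.comm_iff_isSolvable).2 h3⟩⟩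

section constrained

variable (hFT : ∀ X : Subgroup G, Odd (Nat.card X) → Group.IsSolvable X)
  (h2c : ∀ T : Subgroup G, IsPGroup 2 T → T ≠ ⊥ → Cfsg.IsPConstrained 2 ↥(Subgroup.normalizer (T : Set G)))

include h2c in
theorem balanced : Cfsg.IsBalanced G := by
  have : Fact (Nat.Prime 2) := ⟨Nat.prime_two⟩
  have key : ∀ x y : G, orderOf x = 2 → orderOf y = 2 → x * y = y * x →
      centralizerPPrimeCore 2 x ⊓ Subgroup.centralizer {y} ≤
      centralizerPPrimeCore 2 y ⊓ Subgroup.centralizer {x} := by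
    intro x y hx hy hxy
    have hxx : x * x = 1 := by rw [← pow_two, ← hx, pow_orderOf_eq_one]
    have hyy : y * y = 1 := by rw [← pow_two, ← hy, pow_orderOf_eq_one]
    have hy1 : y ≠ 1 := by rintro rfl; rw [orderOf_one] at hy; omega
    refine le_inf ?_ ?_
    · exact H320.EarlyChar.balance 2 (H320.EarlyChar.isPGroup_zpowers hxx) hxy
        (H320.EarlyChar.constrained_centralizer h2c hyy hy1)
    · exact inf_le_left.trans (Lib.CoreCent.core_le 2 x)
  intro x y hx hy hxy
  exact le_antisymm (key x y hx hy hxy) (key y x hy hx hxy.symm)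

include hFT h2c

/-- The completion of the functor `a ↦ O(C(a))`. -/
theorem exists_completion (S : Sylow 2 G) (A : Subgroup ↥(S : Subgroup G)) (hAn : A.Normal)
    (hAab : IsMulCommutative ↥A) (hA3 : ¬ Cfsg.PRankLE 2 2 ↥A) (S' : Sylow 2 G) :
    ∃ W : Subgroup G, Odd (Nat.card ↥W) ∧
      ∀ B : Subgroup G, B ≤ (S' : Subgroup G) → ¬ Cfsg.PRankLE 2 1 ↥B →
        W = (⨆ b : {b : G // b ∈ B ∧ b ≠ 1}, Cfsg.centralizerPPrimeCore 2 (b : G)) ∧
        Subgroup.normalizer (B : Set G) ≤ Subgroup.normalizer (W : Set G) := by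
  have : Fact (Nat.Prime 2) := ⟨Nat.prime_two⟩
  obtain ⟨hS, E, hES, hE, hE3⟩ := fourConnected S A hAn hAab hA3 S'
  have hodd : ∀ a : G, Odd (Nat.card (centralizerPPrimeCore 2 a)) := by
    intro a
    rw [← Nat.not_even_iff_odd, even_iff_two_dvd]
    exact Lib.CoreCent.core_card 2 a
  have hsolv : ∀ t : G, orderOf t = 2 → Group.IsSolvable ↥(centralizerPPrimeCore 2 t) :=
    fun t _ => hFT _ (hodd t)
  have hcon : ∀ t : G, orderOf t = 2 → Cfsg.IsPConstrained 2 ↥(centralizer ({t} : Set G)) := by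
    intro t ht
    have htt : t * t = 1 := by rw [← pow_two, ← ht, pow_orderOf_eq_one]
    have ht1 : t ≠ 1 := by rintro rfl; rw [orderOf_one] at ht; omega
    exact H320.EarlyChar.constrained_centralizer h2c htt ht1
  have hL : ∀ t : G, orderOf t = 2 → pLayer 2 ↥(Subgroup.centralizer ({t} : Set G)) = ⊥ :=
    fun t ht => (Cfsg.Agent.S1327.result 2).mp (hcon t ht)
  -- a four-subgroup of `E`
  obtain ⟨U, hUE, hU⟩ : ∃ U : Subgroup G, U ≤ E ∧ IsKleinFour U := by
    apply exists_kleinFour
    intro h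
    have h1 := h ⊤ ?_ ?_
    · rw [Subgroup.card_top] at h1
      norm_num at hE3 h1
      omega
    · have := hE.1
      refine IsMulCommutative.of_setLike_mul_comm ?_
      intro a _ b _
      apply Subtype.ext
      exact setLike_mul_comm a.2 b.2
    · intro a _
      exact Subtype.ext (hE.2 a a.2)
  have hUS : U ≤ (S' : Subgroup G) := hUE.trans hES
  have hWodd : ¬ 2 ∣ Nat.card (W U) := by
    rw [W_eq_of_le hsolv hL hE hE3 hUE (by rw [hU.card_four]; norm_num)]
    exact not_dvd_W hsolv hL hE hE3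
  refine ⟨W U, ?_, ?_⟩
  · rw [← Nat.not_even_iff_odd, even_iff_two_dvd]
    exact hWodd
  intro B hBS hB
  have hBW : W U = W B := by
    apply le_antisymm
    · obtain ⟨V, hVB, hV⟩ := exists_kleinFour hB
      rw [W_eq_of_rel hsolv hL (rel_of_le hS hU hV hUS (hVB.trans hBS)), W_def]
      refine iSup_le ?_
      rintro ⟨a, ha, ha1⟩
      exact le_W (hVB ha) ha1
    · rw [W_def B]
      refine iSup_le ?_
      rintro ⟨b, hb, hb1⟩
      -- the involution of `⟨b⟩`
      have hbp : IsPGroup 2 (zpowers b) := S'.isPGroup'.to_le (by rw [zpowers_le]; exact hBS hb)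
      have hbne : (zpowers b) ≠ ⊥ := fun h => hb1 (zpowers_eq_bot.1 h)
      have hbnt : Nontrivial (zpowers b) := (nontrivial_iff_ne_bot _).2 hbne
      obtain ⟨n, hn⟩ := IsPGroup.iff_card.1 hbp
      have hdvd : 2 ∣ Nat.card (zpowers b) := by
        rw [hn]
        refine dvd_pow_self 2 ?_
        rintro rfl
        rw [pow_zero] at hn
        have := Finite.one_lt_card (α := zpowers b)
        omega
      obtain ⟨c, hc⟩ := exists_prime_orderOf_dvd_card' 2 hdvd
      set u : G := (c : G) with hu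
      have huo : orderOf u = 2 := by rw [hu, Subgroup.orderOf_coe]; exact hc
      obtain ⟨k, hk⟩ := mem_zpowers_iff.1 c.2
      have huS : u ∈ (S' : Subgroup G) := by
        rw [hu, ← hk]
        exact zpow_mem (hBS hb) k
      have hbu : b * u = u * b := by
        rw [hu, ← hk]
        exact ((Commute.refl b).zpow_right k).eq
      obtain ⟨V, hVS, hV, huV⟩ := exists_four_mem S'.isPGroup' hES hE hE3 huo huS
      have hu1 : u ≠ 1 := by intro h; rw [h, orderOf_one] at huo; omega
      have h1 : centralizerPPrimeCore 2 u ≤ W U := by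
        rw [W_eq_of_rel hsolv hL (rel_of_le hS hU hV hUS hVS)]
        exact le_W huV hu1
      refine le_trans ?_ h1
      have h2 := H320.EarlyChar.balance 2 hbp hbu (hcon u huo)
      refine le_trans (le_inf le_rfl ?_) h2
      refine (Lib.CoreCent.core_le 2 b).trans ?_
      intro x hx
      rw [mem_centralizer_singleton_iff] at hx ⊢
      change x * u = u * x
      rw [hu, ← hk]
      exact (Commute.zpow_right hx k).eq
  refine ⟨hBW, ?_⟩
  intro g hg
  rw [hBW]
  apply mem_normalizer_of_smul_eq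
  rw [← W_smul, smul_eq_of_mem_normalizer hg]

end constrained

end Cfsg.Agent.H447.CoreW
end
end
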