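import Cfsg.Agent.H386.S3513LW
import Cfsg.Agent.H436.TTBase
import Cfsg.Agent.S0243
import Cfsg.Agent.SporadicA.M12Perm
import Cfsg.Agent.SporadicA.M24OfIndex
import Cfsg.Agent.S0374
import Cfsg.Agent.S0364
import Cfsg.Agent.S0363
import Cfsg.Agent.S0369
import Cfsg.Prelude.Def_Spor_Mathieu
import Cfsg.Agent.S0748
import Cfsg.Agent.S0365
import Cfsg.Agent.S0382
import Cfsg.Agent.S0383
import Cfsg.Agent.SporadicA.M11Comp
import Cfsg.Agent.H447.MElems
import Cfsg.Agent.SporadicA.MathieuRecog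
import Cfsg.Agent.S2062
import Cfsg.Agent.S0387
import Cfsg.Agent.S0366
import Cfsg.Agent.S0378
import Cfsg.Agent.FastGrp
import Cfsg.Agent.Prune
set_option linter.all false

section
prune_inst 0x7ffffffdffbefddfdfff7e7ffffddffe3bd6dfffffdffb4bffe9ebffef9fa3f77bc5fbaf1de4f8ffde76e2b438b87853fb7eeeffec6fdc7ffffd5ff45ffbee4ff5f7bf8151d69c340fbe2fff63f17f8e7f3fffffffffffffffffffffffffffffffffffffffff

-- part: H391/KOrb
section
prune_inst 0x22000000000000000000000000000000400000200001020100004080000000000000101000000000000000001000000000000000000000000000000000020000000000000000002000000000000000000000000000000000000000000000000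
set_option linter.all false
open scoped Cfsg.Agent.FastGrp

-- part: H397/KHomA
section
/-!
# `(k-1,k)`-homogeneous groups: core

* `Hom G Ω k`, `Homog G Ω j`, `numOrb G Ω j`;
* `numOrb_le_succ`, `numOrb_mono` : Livingstone-Wagner;
* `spectral` : `(k-s)(m-s) ≤ (k-r)(m-q)`;
* `homog_of_orbit` (L1), `card_stab_le`, `card_stab_le'` (L2), `numOrb_le_of_cover` (L3).
-/

set_option autoImplicit false
set_option linter.unusedSectionVars false

namespace Cfsg.Agent.H397.KHom

open Finset MulAction Cfsg.Agent.H386.S3513LW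
open scoped Pointwise

/-- every `(k-1)`-set can be moved into every `k`-set -/
def Hom (G Ω : Type*) [Group G] [MulAction G Ω] (k : ℕ) : Prop :=
  ∀ I J : Finset Ω, I.card = k - 1 → J.card = k → ∃ g : G, ∀ x ∈ I, g • x ∈ J

/-- `j`-homogeneous -/
def Homog (G Ω : Type*) [Group G] [MulAction G Ω] (j : ℕ) : Prop :=
  ∀ I J : Finset Ω, I.card = j → J.card = j → ∃ g : G, ∀ x ∈ I, g • x ∈ J

variable {G Ω : Type*} [Group G] [MulAction G Ω] [DecidableEq Ω]

/-- the number of orbits on `j`-sets -/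
noncomputable def numOrb (G Ω : Type*) [Group G] [MulAction G Ω] [DecidableEq Ω] (j : ℕ) : ℕ :=
  Nat.card (orbitRel.Quotient G (Set.powersetCard Ω j))

theorem smul_subset_iff {g : G} {I J : Finset Ω} : g • I ⊆ J ↔ ∀ x ∈ I, g • x ∈ J := by
  constructor
  · intro h x hx
    exact h (smul_mem_smul_finset hx)
  · intro h y hy
    obtain ⟨x, hx, rfl⟩ := mem_smul_finset.1 hy
    exact h x hx

theorem Hom.exists_subset {k : ℕ} (h : Hom G Ω k) {I J : Finset Ω} (hI : I.card = k - 1) (hJ : J.card = k) :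
    ∃ g : G, g • I ⊆ J := by
  obtain ⟨g, hg⟩ := h I J hI hJ
  exact ⟨g, smul_subset_iff.2 hg⟩

theorem Homog.exists_eq {k : ℕ} (h : Homog G Ω k) {I J : Finset Ω} (hI : I.card = k) (hJ : J.card = k) :
    ∃ g : G, g • I = J := by
  obtain ⟨g, hg⟩ := h I J hI hJ
  exact ⟨g, eq_of_subset_of_card_le (smul_subset_iff.2 hg) (by rw [card_smul_finset, hI, hJ])⟩

theorem homog_of_exists {k : ℕ} (h : ∀ I J : Finset Ω, I.card = k → J.card = k → ∃ g : G, g • I = J) :
    Homog G Ω k := by
  intro I J hI hJ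
  obtain ⟨g, hg⟩ := h I J hI hJ
  exact ⟨g, smul_subset_iff.1 hg.le⟩

theorem homog_iff_pretransitive {k : ℕ} :
    Homog G Ω k ↔ IsPretransitive G (Set.powersetCard Ω k) := by
  constructor
  · intro h
    refine ⟨fun I J => ?_⟩
    obtain ⟨g, hg⟩ := h.exists_eq I.2 J.2
    exact ⟨g, Subtype.ext hg⟩
  · intro h
    apply homog_of_exists
    intro I J hI hJ
    obtain ⟨g, hg⟩ := h.exists_smul_eq (⟨I, hI⟩ : Set.powersetCard Ω k) ⟨J, hJ⟩
    exact ⟨g, congrArg Subtype.val hg⟩

theorem Hom.erase {k : ℕ} (h : Hom G Ω k) {I J : Finset Ω} (hI : I.card = k - 1) (hJ : J.card = k)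
    (hk : 1 ≤ k) : ∃ g : G, ∃ x ∈ J, g • I = J.erase x := by
  obtain ⟨g, hg⟩ := h.exists_subset hI hJ
  have h1 : (J \ (g • I)).card = 1 := by
    rw [card_sdiff_of_subset hg, card_smul_finset, hI, hJ]; omega
  obtain ⟨x, hx⟩ := card_eq_one.1 h1
  have hxm : x ∈ J \ (g • I) := by rw [hx]; exact mem_singleton_self x
  rw [mem_sdiff] at hxm
  refine ⟨g, x, hxm.1, ?_⟩
  apply eq_of_subset_of_card_le
  · intro y hy
    rw [mem_erase]
    exact ⟨fun hyx => hxm.2 (hyx ▸ hy), hg hy⟩
  · rw [card_erase_of_mem hxm.1, card_smul_finset, hI, hJ]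

theorem Hom.insert {k : ℕ} (h : Hom G Ω k) {I J : Finset Ω} (hI : I.card = k - 1) (hJ : J.card = k)
    (hk : 1 ≤ k) : ∃ g : G, ∃ x, x ∉ I ∧ g • J = insert x I := by
  obtain ⟨g, x, hx, hg⟩ := h.erase hI hJ hk
  refine ⟨g⁻¹, g⁻¹ • x, ?_, ?_⟩
  · intro hxI
    have h1 : x ∈ g • I := by
      rw [← smul_inv_smul g x]
      exact smul_mem_smul_finset hxI
    rw [hg] at h1
    exact notMem_erase x J h1
  · rw [← insert_erase hx, smul_finset_insert, ← hg, inv_smul_smul]

section LW

variable [Fintype Ω]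

/-- the orbits of the image in the symmetric group -/
theorem numOrb_range (j : ℕ) : numOrb G Ω j = numOrb (toPermHom G Ω).range Ω j := by
  unfold numOrb
  refine Nat.card_congr (Quotient.congrRight ?_)
  intro A B
  constructor
  · rintro ⟨g, hg⟩
    refine ⟨⟨toPermHom G Ω g, g, rfl⟩, ?_⟩
    rw [← hg]; rfl
  · rintro ⟨⟨_, g, rfl⟩, hg⟩
    refine ⟨g, ?_⟩
    rw [← hg]; rfl

theorem numOrb_le_succ {j : ℕ} (hj : 2 * j < Fintype.card Ω) : numOrb G Ω j ≤ numOrb G Ω (j + 1) := by
  rw [numOrb_range, numOrb_range (j := j + 1)]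
  exact lw_orbits _ hj

theorem numOrb_mono {i j : ℕ} (hij : i ≤ j) (hj : 2 * j < Fintype.card Ω + 2) :
    numOrb G Ω i ≤ numOrb G Ω j := by
  induction j, hij using Nat.le_induction with
  | base => exact le_rfl
  | succ m hm ih => exact (ih (by omega)).trans (numOrb_le_succ (by omega))

theorem finite_orb (j : ℕ) : Finite (orbitRel.Quotient G (Set.powersetCard Ω j)) := by
  have : Finite (Set.powersetCard Ω j) := inferInstance
  exact Quotient.finite _

theorem homog_iff_numOrb {j : ℕ} : Homog G Ω j ↔ numOrb G Ω j ≤ 1 := by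
  have := finite_orb (G := G) (Ω := Ω) j
  rw [numOrb, Finite.card_le_one_iff_subsingleton, homog_iff_pretransitive,
    ← pretransitive_iff_subsingleton_quotient]

theorem Homog.mono {i j : ℕ} (h : Homog G Ω j) (hij : i ≤ j) (hj : 2 * j < Fintype.card Ω + 2) : Homog G Ω i := by
  rw [homog_iff_numOrb] at h ⊢
  exact (numOrb_mono hij hj).trans h

end LW

section Spectral

variable [Fintype Ω]

theorem U_inv {f : Finset Ω → ℝ} (hf : ∀ (g : G) (A : Finset Ω), f (g • A) = f A) (g : G) (T : Finset Ω) :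
    U f (g • T) = U f T := by
  have h1 : ∀ (σ : Equiv.Perm Ω) (A : Finset Ω), σ = toPermHom G Ω g → σ • A = g • A := by
    rintro σ A rfl; rfl
  rw [← h1 _ T rfl]
  apply U_smul
  intro A
  rw [h1 _ A rfl, hf]

theorem DU_eq (f : Finset Ω → ℝ) (S : Finset Ω) :
    D (U f) S = U (D f) S + ((Fintype.card Ω : ℝ) - 2 * S.card) * f S := by
  have h1 : D (U f) S = ((Fintype.card Ω : ℝ) - S.card) * f S +
      ∑ a ∈ Sᶜ, ∑ b ∈ S, f (Insert.insert a (S.erase b)) := by
    unfold D U
    have h2 : ∀ a ∈ Sᶜ, ∑ b ∈ Insert.insert a S, f ((Insert.insert a S).erase b) =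
        f S + ∑ b ∈ S, f (Insert.insert a (S.erase b)) := by
      intro a ha
      rw [mem_compl] at ha
      rw [sum_insert ha, erase_insert ha]
      congr 1
      refine Finset.sum_congr rfl fun b hb => ?_
      rw [erase_insert_of_ne]
      rintro rfl
      exact ha hb
    rw [Finset.sum_congr rfl h2, Finset.sum_add_distrib, Finset.sum_const, card_compl, nsmul_eq_mul,
      Nat.cast_sub (card_le_univ S)]
  have h3 : U (D f) S = (S.card : ℝ) * f S + ∑ b ∈ S, ∑ a ∈ Sᶜ, f (Insert.insert a (S.erase b)) := by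
    unfold D U
    have h2 : ∀ b ∈ S, ∑ a ∈ (S.erase b)ᶜ, f (Insert.insert a (S.erase b)) =
        f S + ∑ a ∈ Sᶜ, f (Insert.insert a (S.erase b)) := by
      intro b hb
      have h4 : (S.erase b)ᶜ = Insert.insert b Sᶜ := by
        ext x
        simp only [mem_compl, mem_erase, mem_insert]
        (clear * -; tauto)
      have h5 : b ∉ Sᶜ := by simp [hb]
      rw [h4, sum_insert h5, insert_erase hb]
    rw [Finset.sum_congr rfl h2, Finset.sum_add_distrib, Finset.sum_const, nsmul_eq_mul]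
  rw [h1, h3, Finset.sum_comm (s := Sᶜ) (t := S)]
  ring

theorem D_inv {f : Finset Ω → ℝ} (hf : ∀ (g : G) (A : Finset Ω), f (g • A) = f A) (g : G) (T : Finset Ω) :
    D f (g • T) = D f T := by
  unfold D
  refine Finset.sum_nbij' (fun a => g⁻¹ • a) (fun a => g • a) ?_ ?_ ?_ ?_ ?_
  · intro a ha
    rw [mem_compl] at ha ⊢
    intro h1
    apply ha
    rw [← smul_inv_smul g a]
    exact smul_mem_smul_finset h1
  · intro a ha
    rw [mem_compl] at ha ⊢
    rwa [smul_mem_smul_finset_iff]
  · intro a _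
    rw [smul_inv_smul]
  · intro a _
    rw [inv_smul_smul]
  · intro a _
    rw [← hf g (Insert.insert (g⁻¹ • a) T), smul_finset_insert, smul_inv_smul]

theorem U_iter_supp {f : Finset Ω → ℝ} {s : ℕ} (hf : ∀ A : Finset Ω, A.card ≠ s → f A = 0) (i : ℕ)
    (A : Finset Ω) (hA : A.card ≠ s + i) : (U^[i] f) A = 0 := by
  induction i generalizing A with
  | zero => exact hf A hA
  | succ i ih =>
    rw [Function.iterate_succ_apply']
    unfold U
    refine Finset.sum_eq_zero fun a ha => ih _ ?_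
    rw [card_erase_of_mem ha]
    have : 0 < A.card := card_pos.2 ⟨a, ha⟩
    omega

theorem D_iter {f : Finset Ω → ℝ} {s : ℕ} (hf : ∀ A : Finset Ω, A.card ≠ s → f A = 0)
    (hD : ∀ A, D f A = 0) (i : ℕ) (A : Finset Ω) :
    D (U^[i + 1] f) A = ((i : ℝ) + 1) * ((Fintype.card Ω : ℝ) - 2 * s - i) * (U^[i] f) A := by
  induction i generalizing A with
  | zero =>
    have h1 : U (D f) A = 0 := Finset.sum_eq_zero fun a _ => hD _
    change D (U f) A = _ * f A
    rw [DU_eq, h1]
    by_cases hA : A.card = s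
    · rw [hA]; push_cast; ring
    · rw [hf A hA]; ring
  | succ i ih =>
    have h1 : U (D (U^[i + 1] f)) A =
        ((i : ℝ) + 1) * ((Fintype.card Ω : ℝ) - 2 * s - i) * (U^[i + 1] f) A := by
      change ∑ a ∈ A, D (U^[i + 1] f) (A.erase a) = _ * (U^[i + 1] f) A
      rw [Function.iterate_succ_apply' (n := i) (x := f)]
      change ∑ a ∈ A, D (U (U^[i] f)) (A.erase a) = _ * ∑ a ∈ A, (U^[i] f) (A.erase a)
      rw [Finset.mul_sum]
      refine Finset.sum_congr rfl fun a _ => ?_
      rw [← ih, Function.iterate_succ_apply' (n := i)]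
    rw [Function.iterate_succ_apply' (n := i + 1), DU_eq, h1]
    by_cases hA : A.card = s + (i + 1)
    · rw [hA]; push_cast; ring
    · rw [U_iter_supp hf (i + 1) A hA]; ring

theorem iter_inv {f : Finset Ω → ℝ} (hf : ∀ (g : G) (A : Finset Ω), f (g • A) = f A) (i : ℕ) (g : G)
    (A : Finset Ω) : (U^[i] f) (g • A) = (U^[i] f) A := by
  induction i generalizing g A with
  | zero => exact hf g A
  | succ i ih =>
    rw [Function.iterate_succ_apply']
    exact U_inv ih g A

/-- if `U^i f` is constant then `f` is constant -/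
theorem const_of_iter {f : Finset Ω → ℝ} {s : ℕ} (hf : ∀ A : Finset Ω, A.card ≠ s → f A = 0)
    (hD : ∀ A, D f A = 0) (i : ℕ) (hi : 2 * s + i ≤ Fintype.card Ω)
    (hc : ∀ A B : Finset Ω, A.card = s + i → B.card = s + i → (U^[i] f) A = (U^[i] f) B) :
    ∀ A B : Finset Ω, A.card = s → B.card = s → f A = f B := by
  induction i with
  | zero => exact hc
  | succ i ih =>
    apply ih (by omega)
    have hpos : (0 : ℝ) < ((i : ℝ) + 1) * ((Fintype.card Ω : ℝ) - 2 * s - i) := by
      have h1 : ((2 * s + (i + 1) : ℕ) : ℝ) ≤ (Fintype.card Ω : ℝ) := by exact_mod_cast hi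
      push_cast at h1
      have h2 : (0 : ℝ) ≤ i := Nat.cast_nonneg i
      apply mul_pos <;> linarith only [h1]
    intro A B hA hB
    apply mul_left_cancel₀ hpos.ne'
    rw [← D_iter hf hD i A, ← D_iter hf hD i B]
    have h3 : ∀ A : Finset Ω, A.card = s + i → ∀ C : Finset Ω, C.card = s + (i + 1) →
        D (U^[i + 1] f) A = ((Fintype.card Ω - (s + i) : ℕ) : ℝ) * (U^[i + 1] f) C := by
      intro A hA C hC
      unfold D
      rw [← hA, ← card_compl, ← nsmul_eq_mul, ← Finset.sum_const]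
      refine Finset.sum_congr rfl fun a ha => ?_
      rw [mem_compl] at ha
      exact hc _ _ (by rw [card_insert_of_notMem ha, hA]; omega) hC
    obtain ⟨C, hC⟩ : ∃ C : Finset Ω, C.card = s + (i + 1) := by
      obtain ⟨C, -, hC⟩ := Finset.exists_subset_card_eq (s := (Finset.univ : Finset Ω))
        (n := s + (i + 1)) (by rw [card_univ]; omega)
      exact ⟨C, hC⟩
    rw [h3 A hA C hC, h3 B hB C hC]

/-- a nonconstant invariant function at the level of non-homogeneity -/
theorem exists_fun {s : ℕ} (hs : s ≤ Fintype.card Ω) (hs1 : 1 ≤ s) (h1 : Homog G Ω (s - 1))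
    (h2 : ¬ Homog G Ω s) : ∃ f : Finset Ω → ℝ, (∀ A : Finset Ω, A.card ≠ s → f A = 0) ∧
      (∀ A, D f A = 0) ∧ (∀ (g : G) (A : Finset Ω), f (g • A) = f A) ∧
      ∃ A B : Finset Ω, A.card = s ∧ B.card = s ∧ f A ≠ f B := by
  classical
  have h3 : ∃ I J : Finset Ω, I.card = s ∧ J.card = s ∧ ∀ g : G, g • I ≠ J := by
    by_contra hcon
    push Not at hcon
    exact h2 (homog_of_exists hcon)
  obtain ⟨I, J, hI, hJ, hIJ⟩ := h3
  let χ : Finset Ω → ℝ := fun A => if ∃ g : G, g • I = A then 1 else 0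
  let ω : Finset Ω → ℝ := fun A => if A.card = s then 1 else 0
  have hχ : ∀ (g : G) (A : Finset Ω), χ (g • A) = χ A := by
    intro g A
    have h4 : (∃ h : G, h • I = g • A) ↔ ∃ h : G, h • I = A := by
      constructor
      · rintro ⟨h, hh⟩
        exact ⟨g⁻¹ * h, by rw [mul_smul, hh, inv_smul_smul]⟩
      · rintro ⟨h, hh⟩
        exact ⟨g * h, by rw [mul_smul, hh]⟩
    simp only [χ, h4]
  have hω : ∀ (g : G) (A : Finset Ω), ω (g • A) = ω A := by
    intro g A
    simp only [ω, card_smul_finset]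
  have hχs : ∀ A : Finset Ω, A.card ≠ s → χ A = 0 := by
    intro A hA
    simp only [χ]
    rw [if_neg]
    rintro ⟨g, rfl⟩
    exact hA (by rw [card_smul_finset, hI])
  have hωD : ∀ T : Finset Ω, T.card = s - 1 → D ω T = ((Fintype.card Ω - (s - 1) : ℕ) : ℝ) := by
    intro T hT
    unfold D
    have h4 : ∀ a ∈ Tᶜ, ω (Insert.insert a T) = 1 := by
      intro a ha
      rw [mem_compl] at ha
      simp only [ω]
      rw [if_pos]
      rw [card_insert_of_notMem ha, hT]; omega
    rw [Finset.sum_congr rfl h4, Finset.sum_const, card_compl, hT, nsmul_eq_mul, mul_one]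
  obtain ⟨T₀, -, hT₀⟩ := Finset.exists_subset_card_eq (s := (Finset.univ : Finset Ω))
        (n := s - 1) (by rw [card_univ]; omega)
  have hpos : (0 : ℝ) < ((Fintype.card Ω - (s - 1) : ℕ) : ℝ) := by
    exact_mod_cast (by omega : 0 < Fintype.card Ω - (s - 1))
  have hχD : ∀ T : Finset Ω, T.card = s - 1 → D χ T = D χ T₀ := by
    intro T hT
    obtain ⟨g, hg⟩ := h1.exists_eq hT hT₀
    rw [← hg, D_inv hχ]
  refine ⟨fun A => χ A - D χ T₀ / ((Fintype.card Ω - (s - 1) : ℕ) : ℝ) * ω A, ?_, ?_, ?_, I, J, hI, hJ, ?_⟩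
  · intro A hA
    simp only [hχs A hA, ω, if_neg hA]
    ring
  · intro A
    have h5 : D (fun A => χ A - D χ T₀ / ((Fintype.card Ω - (s - 1) : ℕ) : ℝ) * ω A) A =
        D χ A - D χ T₀ / ((Fintype.card Ω - (s - 1) : ℕ) : ℝ) * D ω A := by
      unfold D
      rw [Finset.sum_sub_distrib, Finset.mul_sum]
    rw [h5]
    by_cases hA : A.card = s - 1
    · rw [hχD A hA, hωD A hA]
      field_simp
      ring
    · have h6 : D χ A = 0 := Finset.sum_eq_zero fun a ha => by
        rw [mem_compl] at ha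
        apply hχs
        rw [card_insert_of_notMem ha]; omega
      have h7 : D ω A = 0 := Finset.sum_eq_zero fun a ha => by
        rw [mem_compl] at ha
        simp only [ω]
        rw [if_neg]
        rw [card_insert_of_notMem ha]; omega
      rw [h6, h7]; ring
  · intro g A
    simp only [hχ, hω]
  · have h8 : χ I = 1 := by
      simp only [χ]; rw [if_pos ⟨1, one_smul _ _⟩]
    have h9 : χ J = 0 := by
      simp only [χ]; rw [if_neg (by rintro ⟨g, hg⟩; exact hIJ g hg)]
    simp only [h8, h9, ω, if_pos hI, if_pos hJ]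
    intro h
    linarith only [h]

theorem section_le {Q ι : Type*} [Fintype Q] (φ : Q → ℝ) (J : Finset ι) (ψ : ι → ℝ) (σ : Q → ι)
    (hσJ : ∀ q, σ q ∈ J) (hσ : Function.Injective σ) (hφ : ∀ q, ψ (σ q) = φ q) {B : ℝ}
    (hB : ∀ x ∈ J, ψ x ≤ B) :
    ∑ x ∈ J, ψ x ≤ ((J.card : ℝ) - Fintype.card Q) * B + ∑ q, φ q := by
  classical
  have h1 : ∑ q, (B - φ q) ≤ ∑ x ∈ J, (B - ψ x) := by
    have h2 : ∑ q, (B - φ q) = ∑ x ∈ (Finset.univ : Finset Q).image σ, (B - ψ x) := by
      rw [Finset.sum_image (fun _ _ _ _ h => hσ h)]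
      exact Finset.sum_congr rfl fun q _ => by rw [hφ]
    rw [h2]
    apply Finset.sum_le_sum_of_subset_of_nonneg
    · intro x hx
      obtain ⟨q, -, rfl⟩ := Finset.mem_image.1 hx
      exact hσJ q
    · intro x hx _
      linarith [hB x hx]
  rw [Finset.sum_sub_distrib, Finset.sum_sub_distrib, Finset.sum_const, Finset.sum_const,
    nsmul_eq_mul, nsmul_eq_mul, Finset.card_univ] at h1
  linarith

/-- the sum of the values on the orbits of `j`-sets -/
noncomputable def orbSum (G : Type*) [Group G] [MulAction G Ω] (j : ℕ) (g : Finset Ω → ℝ) : ℝ :=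
  letI := Fintype.ofFinite (orbitRel.Quotient G (Set.powersetCard Ω j))
  ∑ q : orbitRel.Quotient G (Set.powersetCard Ω j), g (Quotient.out q).1

theorem orbSum_neg (j : ℕ) (g : Finset Ω → ℝ) :
    orbSum G j (fun A => - g A) = - orbSum G j g := by
  unfold orbSum
  rw [Finset.sum_neg_distrib]

theorem U_le {k : ℕ} (h : Hom G Ω k) (hk : 1 ≤ k) {g : Finset Ω → ℝ}
    (hg : ∀ (x : G) (A : Finset Ω), g (x • A) = g A) {B : ℝ} (hB : ∀ I : Finset Ω, I.card = k - 1 → g I ≤ B)
    {J : Finset Ω} (hJ : J.card = k) :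
    U g J ≤ ((k : ℝ) - numOrb G Ω (k - 1)) * B + orbSum G (k - 1) g := by
  classical
  let _ := Fintype.ofFinite (orbitRel.Quotient G (Set.powersetCard Ω (k - 1)))
  have hex : ∀ q : orbitRel.Quotient G (Set.powersetCard Ω (k - 1)),
      ∃ x ∈ J, ∃ y : G, y • (Quotient.out q).1 = J.erase x := by
    intro q
    obtain ⟨y, x, hx, hy⟩ := h.erase (Quotient.out q).2 hJ hk
    exact ⟨x, hx, y, hy⟩
  choose σ hσJ y hy using hex
  have h1 := section_le (fun q => g (Quotient.out q).1) J (fun x => g (J.erase x)) σ hσJ (by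
      intro q q' hqq
      have h2 : y q • (Quotient.out q).1 = y q' • (Quotient.out q').1 := by rw [hy, hy, hqq]
      rw [← Quotient.out_eq' q, ← Quotient.out_eq' q']
      apply Quotient.sound'
      refine ⟨(y q)⁻¹ * y q', Subtype.ext ?_⟩
      change ((y q)⁻¹ * y q') • (Quotient.out q').1 = (Quotient.out q).1
      rw [mul_smul, ← h2, inv_smul_smul]) (by
      intro q
      change g (J.erase (σ q)) = g (Quotient.out q).1
      rw [← hy, hg]) (B := B) (by
      intro x hx
      apply hB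
      rw [card_erase_of_mem hx, hJ])
  rw [hJ, ← Nat.card_eq_fintype_card] at h1
  exact h1

theorem D_le {k : ℕ} (h : Hom G Ω k) (hk : 1 ≤ k) {g : Finset Ω → ℝ}
    (hg : ∀ (x : G) (A : Finset Ω), g (x • A) = g A) {B : ℝ} (hB : ∀ J : Finset Ω, J.card = k → g J ≤ B)
    {I : Finset Ω} (hI : I.card = k - 1) :
    D g I ≤ (((Fintype.card Ω - (k - 1) : ℕ) : ℝ) - numOrb G Ω k) * B + orbSum G k g := by
  classical
  let _ := Fintype.ofFinite (orbitRel.Quotient G (Set.powersetCard Ω k))
  have hex : ∀ q : orbitRel.Quotient G (Set.powersetCard Ω k),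
      ∃ x ∈ Iᶜ, ∃ y : G, y • (Quotient.out q).1 = Insert.insert x I := by
    intro q
    obtain ⟨y, x, hx, hy⟩ := h.insert hI (Quotient.out q).2 hk
    exact ⟨x, mem_compl.2 hx, y, hy⟩
  choose σ hσJ y hy using hex
  have h1 := section_le (fun q => g (Quotient.out q).1) Iᶜ (fun x => g (Insert.insert x I)) σ hσJ (by
      intro q q' hqq
      have h2 : y q • (Quotient.out q).1 = y q' • (Quotient.out q').1 := by rw [hy, hy, hqq]
      rw [← Quotient.out_eq' q, ← Quotient.out_eq' q']
      apply Quotient.sound'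
      refine ⟨(y q)⁻¹ * y q', Subtype.ext ?_⟩
      change ((y q)⁻¹ * y q') • (Quotient.out q').1 = (Quotient.out q).1
      rw [mul_smul, ← h2, inv_smul_smul]) (by
      intro q
      change g (Insert.insert (σ q) I) = g (Quotient.out q).1
      rw [← hy, hg]) (B := B) (by
      intro x hx
      apply hB
      rw [mem_compl] at hx
      rw [card_insert_of_notMem hx, hI]; omega)
  rw [card_compl, hI, ← Nat.card_eq_fintype_card (α := orbitRel.Quotient G (Set.powersetCard Ω k))] at h1
  exact h1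

theorem U_neg (g : Finset Ω → ℝ) (J : Finset Ω) : U (fun A => - g A) J = - U g J := by
  unfold U
  rw [Finset.sum_neg_distrib]

theorem D_neg (g : Finset Ω → ℝ) (J : Finset Ω) : D (fun A => - g A) J = - D g J := by
  unfold D
  rw [Finset.sum_neg_distrib]

theorem U_osc {k : ℕ} (h : Hom G Ω k) (hk : 1 ≤ k) {g : Finset Ω → ℝ}
    (hg : ∀ (x : G) (A : Finset Ω), g (x • A) = g A) {A B : ℝ}
    (hA : ∀ I : Finset Ω, I.card = k - 1 → A ≤ g I) (hB : ∀ I : Finset Ω, I.card = k - 1 → g I ≤ B)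
    {J J' : Finset Ω} (hJ : J.card = k) (hJ' : J'.card = k) :
    U g J - U g J' ≤ ((k : ℝ) - numOrb G Ω (k - 1)) * (B - A) := by
  have h1 := U_le h hk hg hB hJ
  have h2 := U_le h hk (g := fun A => - g A) (fun x A => by rw [hg]) (B := -A)
    (fun I hI => neg_le_neg (hA I hI)) hJ'
  rw [U_neg, orbSum_neg] at h2
  linarith only [h1, h2]

theorem D_osc {k : ℕ} (h : Hom G Ω k) (hk : 1 ≤ k) {g : Finset Ω → ℝ}
    (hg : ∀ (x : G) (A : Finset Ω), g (x • A) = g A) {A B : ℝ}
    (hA : ∀ I : Finset Ω, I.card = k → A ≤ g I) (hB : ∀ I : Finset Ω, I.card = k → g I ≤ B)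
    {J J' : Finset Ω} (hJ : J.card = k - 1) (hJ' : J'.card = k - 1) :
    D g J - D g J' ≤ (((Fintype.card Ω - (k - 1) : ℕ) : ℝ) - numOrb G Ω k) * (B - A) := by
  have h1 := D_le h hk hg hB hJ
  have h2 := D_le h hk (g := fun A => - g A) (fun x A => by rw [hg]) (B := -A)
    (fun I hI => neg_le_neg (hA I hI)) hJ'
  rw [D_neg, orbSum_neg] at h2
  linarith only [h1, h2]

theorem numOrb_le_k {k : ℕ} (h : Hom G Ω k) (hk : 1 ≤ k) (hn : k ≤ Fintype.card Ω) :
    numOrb G Ω (k - 1) ≤ k := by
  classical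
  obtain ⟨J, -, hJ⟩ := Finset.exists_subset_card_eq (s := (Finset.univ : Finset Ω))
        (n := k) (by rw [card_univ]; omega)
  have hex : ∀ q : orbitRel.Quotient G (Set.powersetCard Ω (k - 1)),
      ∃ x : J, ∃ y : G, y • (Quotient.out q).1 = J.erase x := by
    intro q
    obtain ⟨y, x, hx, hy⟩ := h.erase (Quotient.out q).2 hJ hk
    exact ⟨⟨x, hx⟩, y, hy⟩
  choose σ y hy using hex
  have hinj : Function.Injective σ := by
    intro q q' hqq
    have h2 : y q • (Quotient.out q).1 = y q' • (Quotient.out q').1 := by rw [hy, hy, hqq]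
    rw [← Quotient.out_eq' q, ← Quotient.out_eq' q']
    apply Quotient.sound'
    refine ⟨(y q)⁻¹ * y q', Subtype.ext ?_⟩
    change ((y q)⁻¹ * y q') • (Quotient.out q').1 = (Quotient.out q).1
    rw [mul_smul, ← h2, inv_smul_smul]
  have h1 := Nat.card_le_card_of_injective σ hinj
  rw [Nat.card_eq_fintype_card (α := J), Fintype.card_coe, hJ] at h1
  exact h1

theorem numOrb_le_m {k : ℕ} (h : Hom G Ω k) (hk : 1 ≤ k) (hn : k ≤ Fintype.card Ω) :
    numOrb G Ω k ≤ Fintype.card Ω - (k - 1) := by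
  classical
  obtain ⟨I, -, hI⟩ := Finset.exists_subset_card_eq (s := (Finset.univ : Finset Ω))
        (n := k - 1) (by rw [card_univ]; omega)
  have hex : ∀ q : orbitRel.Quotient G (Set.powersetCard Ω k),
      ∃ x : (Iᶜ : Finset Ω), ∃ y : G, y • (Quotient.out q).1 = Insert.insert (x : Ω) I := by
    intro q
    obtain ⟨y, x, hx, hy⟩ := h.insert hI (Quotient.out q).2 hk
    exact ⟨⟨x, mem_compl.2 hx⟩, y, hy⟩
  choose σ y hy using hex
  have hinj : Function.Injective σ := by
    intro q q' hqq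
    have h2 : y q • (Quotient.out q).1 = y q' • (Quotient.out q').1 := by rw [hy, hy, hqq]
    rw [← Quotient.out_eq' q, ← Quotient.out_eq' q']
    apply Quotient.sound'
    refine ⟨(y q)⁻¹ * y q', Subtype.ext ?_⟩
    change ((y q)⁻¹ * y q') • (Quotient.out q').1 = (Quotient.out q).1
    rw [mul_smul, ← h2, inv_smul_smul]
  have h1 := Nat.card_le_card_of_injective σ hinj
  have h2 : Nat.card (Iᶜ : Finset Ω) = Fintype.card Ω - (k - 1) := by
    rw [Nat.card_eq_fintype_card, Fintype.card_coe, card_compl, hI]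
  rw [h2] at h1
  exact h1

/-- **The spectral inequality.** -/
theorem spectral {k s : ℕ} (h : Hom G Ω k) (hn : 2 * k ≤ Fintype.card Ω + 1) (hs1 : 1 ≤ s) (hsk : s ≤ k - 1)
    (h1 : Homog G Ω (s - 1)) (h2 : ¬ Homog G Ω s) :
    (k - s) * (Fintype.card Ω - (k - 1) - s) ≤
      (k - numOrb G Ω (k - 1)) * (Fintype.card Ω - (k - 1) - numOrb G Ω k) := by
  classical
  have hk : 1 ≤ k := by omega
  obtain ⟨f, hf, hD, hinv, hne⟩ := exists_fun (by omega) hs1 h1 h2
  obtain ⟨i, hi⟩ : ∃ i, k - 1 = s + i := ⟨k - 1 - s, by omega⟩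
  obtain ⟨g, hg⟩ : ∃ g, g = U^[i] f := ⟨_, rfl⟩
  have hginv : ∀ (x : G) (A : Finset Ω), g (x • A) = g A := by rw [hg]; exact iter_inv hinv i
  have hUinv : ∀ (x : G) (A : Finset Ω), U g (x • A) = U g A := U_inv hginv
  have hDU : ∀ A, D (U g) A = ((i : ℝ) + 1) * ((Fintype.card Ω : ℝ) - 2 * s - i) * g A := by
    intro A
    have h3 := D_iter hf hD i A
    rw [Function.iterate_succ_apply', ← hg] at h3
    exact h3
  have hne1 : ((Finset.univ : Finset Ω).powersetCard (k - 1)).Nonempty := by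
    rw [powersetCard_nonempty, card_univ]; omega
  have hne2 : ((Finset.univ : Finset Ω).powersetCard k).Nonempty := by
    rw [powersetCard_nonempty, card_univ]; omega
  obtain ⟨I₁, hI₁, hmax⟩ := exists_max_image _ g hne1
  obtain ⟨I₂, hI₂, hmin⟩ := exists_min_image _ g hne1
  obtain ⟨J₂, hJ₂, hJmin⟩ := exists_min_image _ (U g) hne2
  simp only [mem_powersetCard_univ] at hI₁ hmax hI₂ hmin hJ₂ hJmin
  have hpos : 0 < g I₁ - g I₂ := by
    by_contra hcon
    push Not at hcon
    obtain ⟨A, B, hA, hB, hAB⟩ := hne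
    apply hAB
    refine const_of_iter hf hD i (by omega) ?_ A B hA hB
    intro A B hA hB
    rw [← hi] at hA hB
    rw [← hg]
    have a1 := hmax A hA
    have a2 := hmin A hA
    have a3 := hmax B hB
    have a4 := hmin B hB
    linarith only [hcon, a1, a2, a3, a4]
  obtain ⟨C, hC⟩ : ∃ C, C = ((k : ℝ) - numOrb G Ω (k - 1)) * (g I₁ - g I₂) := ⟨_, rfl⟩
  have h3 : ∀ J : Finset Ω, J.card = k → U g J ≤ U g J₂ + C := by
    intro J hJ
    have := U_osc h hk hginv (A := g I₂) (B := g I₁) hmin hmax hJ hJ₂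
    rw [← hC] at this
    linarith only [this]
  have h4 := D_osc h hk hUinv (A := U g J₂) (B := U g J₂ + C) hJmin h3 hI₁ hI₂
  rw [hDU, hDU, ← mul_sub, add_sub_cancel_left, hC, ← mul_assoc] at h4
  have h5 := le_of_mul_le_mul_right h4 hpos
  have h6 := numOrb_le_k h hk (by omega)
  have h7 := numOrb_le_m h hk (by omega)
  have h8 : s ≤ Fintype.card Ω - (k - 1) := by (clear * - hn hi; omega)
  have h9 : s ≤ k := by omega
  have h10 : k - 1 ≤ Fintype.card Ω := by omega
  rw [← Nat.cast_le (α := ℝ), Nat.cast_mul, Nat.cast_mul, Nat.cast_sub h6, Nat.cast_sub h7, Nat.cast_sub h8,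
    Nat.cast_sub h9]
  rw [mul_comm ((k : ℝ) - numOrb G Ω (k - 1))]
  refine le_trans (le_of_eq ?_) h5
  rw [Nat.cast_sub h10]
  have h11 : ((k - 1 : ℕ) : ℝ) = (s : ℝ) + i := by rw [hi]; push_cast; ring
  have h12 : (k : ℝ) = (s : ℝ) + i + 1 := by
    rw [← h11, Nat.cast_sub hk]; push_cast; ring
  rw [h11, h12]
  ring

/-- the level of non-homogeneity bounds the number of orbits -/
theorem numOrb_le_level {k s : ℕ} (h : Hom G Ω k) (hn : 2 * k ≤ Fintype.card Ω + 1) (hs1 : 1 ≤ s)
    (hsk : s ≤ k - 1) (h1 : Homog G Ω (s - 1)) (h2 : ¬ Homog G Ω s) {j : ℕ} (hj : j ≤ k - 1) :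
    numOrb G Ω j ≤ s := by
  have h3 := spectral h hn hs1 hsk h1 h2
  refine (numOrb_mono hj (by omega)).trans ?_
  by_contra hcon
  push Not at hcon
  have h4 : numOrb G Ω (k - 1) ≤ numOrb G Ω k := numOrb_mono (by omega) (by omega)
  have h5 : (k - numOrb G Ω (k - 1)) * (Fintype.card Ω - (k - 1) - numOrb G Ω k) <
      (k - s) * (Fintype.card Ω - (k - 1) - s) := by
    apply Nat.mul_lt_mul'' <;> (clear * - hs1 hsk hcon hn h4; omega)
  omega

end Spectral

end Cfsg.Agent.H397.KHom
end

-- part: H397/KHomTwo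
section
/-!
# `(k-1,k)`-homogeneous groups are transitive and 2-homogeneous

* `Hom.pretransitive`, `Hom.two_homog`, `Hom.exists_level`;
* `Hom.homog_of_trans`, `Hom.homog_of_orbit` (L1), `Hom.choose_mul_card_le`, `Hom.choose_mul_card_le'` (L2),
  `Hom.numOrb_le_of_cover` (L3).
-/

set_option autoImplicit false
set_option linter.unusedSectionVars false

namespace Cfsg.Agent.H397.KHom

open Finset MulAction
open scoped Pointwise

variable {G Ω : Type*} [Group G] [MulAction G Ω] [DecidableEq Ω]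

/-- L1 -/
theorem Hom.homog_of_trans {k : ℕ} (h : Hom G Ω k) (hk : 1 ≤ k) {J : Finset Ω} (hJ : J.card = k)
    (ht : ∀ x ∈ J, ∀ y ∈ J, ∃ g : G, g • J = J ∧ g • x = y) : Homog G Ω (k - 1) := by
  apply homog_of_exists
  intro I I' hI hI'
  obtain ⟨g, x, hx, hg⟩ := h.erase hI hJ hk
  obtain ⟨g', y, hy, hg'⟩ := h.erase hI' hJ hk
  obtain ⟨t, ht1, ht2⟩ := ht x hx y hy
  refine ⟨g'⁻¹ * t * g, ?_⟩
  rw [mul_smul, mul_smul, hg, inv_smul_eq_iff, hg']
  have h1 : t • J.erase x = (t • J).erase (t • x) := by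
    ext z
    rw [mem_smul_finset, mem_erase]
    constructor
    · rintro ⟨w, hw, rfl⟩
      rw [mem_erase] at hw
      exact ⟨fun h2 => hw.1 (MulAction.injective t h2), smul_mem_smul_finset hw.2⟩
    · rintro ⟨h2, h3⟩
      obtain ⟨w, hw, rfl⟩ := mem_smul_finset.1 h3
      exact ⟨w, mem_erase.2 ⟨fun h4 => h2 (by rw [h4]), hw⟩, rfl⟩
  rw [h1, ht1, ht2]

/-- L1 for a subgroup with an orbit of length `k` -/
theorem Hom.homog_of_orbit {k : ℕ} (h : Hom G Ω k) (hk : 1 ≤ k) (H : Subgroup G) (a : Ω)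
    (ho : (orbit H a).ncard = k) : Homog G Ω (k - 1) := by
  classical
  have hfin : (orbit H a).Finite := Set.finite_of_ncard_ne_zero (by omega)
  have hmem : ∀ x, x ∈ hfin.toFinset ↔ x ∈ orbit H a := fun x => hfin.mem_toFinset
  refine h.homog_of_trans hk (J := hfin.toFinset) (by rw [← ho, Set.ncard_eq_toFinset_card _ hfin]) ?_
  intro x hx y hy
  rw [hmem] at hx hy
  obtain ⟨g, rfl⟩ := hx
  obtain ⟨g', rfl⟩ := hy
  refine ⟨(g' : G) * (g : G)⁻¹, ?_, ?_⟩
  · ext z
    rw [mem_smul_finset, hmem]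
    constructor
    · rintro ⟨w, hw, rfl⟩
      rw [hmem] at hw
      obtain ⟨t, rfl⟩ := hw
      exact ⟨g' * g⁻¹ * t, by change ((g' : G) * (g : G)⁻¹ * (t : G)) • a = _; rw [mul_smul]; rfl⟩
    · rintro ⟨t, rfl⟩
      refine ⟨((g : G) * (g' : G)⁻¹ * (t : G)) • a, ?_, ?_⟩
      · rw [hmem]
        exact ⟨g * g'⁻¹ * t, rfl⟩
      · rw [← mul_smul]
        change _ = (t : G) • a
        congr 1
        group
  · change ((g' : G) * (g : G)⁻¹) • ((g : G) • a) = (g' : G) • a
    rw [← mul_smul, inv_mul_cancel_right]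

/-- L3 -/
theorem Hom.numOrb_le_of_cover {k : ℕ} (h : Hom G Ω k) (hk : 1 ≤ k) {J : Finset Ω} (hJ : J.card = k)
    (X : Finset Ω) (hX : ∀ y ∈ J, ∃ x ∈ X, ∃ g : G, g • J = J ∧ g • x = y) :
    numOrb G Ω (k - 1) ≤ X.card := by
  have hex : ∀ q : orbitRel.Quotient G (Set.powersetCard Ω (k - 1)),
      ∃ x : X, ∃ y : G, y • (Quotient.out q).1 = J.erase x := by
    intro q
    obtain ⟨y, z, hz, hy⟩ := h.erase (Quotient.out q).2 hJ hk
    obtain ⟨x, hx, g, hg, hgx⟩ := hX z hz
    refine ⟨⟨x, hx⟩, g⁻¹ * y, ?_⟩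
    rw [mul_smul, hy, inv_smul_eq_iff, ← hgx]
    ext w
    rw [mem_smul_finset, mem_erase]
    constructor
    · rintro ⟨h1, h2⟩
      rw [← hg] at h2
      obtain ⟨v, hv, rfl⟩ := mem_smul_finset.1 h2
      exact ⟨v, mem_erase.2 ⟨fun h4 => h1 (by rw [h4]), hv⟩, rfl⟩
    · rintro ⟨v, hv, rfl⟩
      rw [mem_erase] at hv
      refine ⟨fun h4 => hv.1 (MulAction.injective g h4), ?_⟩
      rw [← hg]
      exact smul_mem_smul_finset hv.2
  choose σ y hy using hex
  have hinj : Function.Injective σ := by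
    intro q q' hqq
    have h2 : y q • (Quotient.out q).1 = y q' • (Quotient.out q').1 := by rw [hy, hy, hqq]
    rw [← Quotient.out_eq' q, ← Quotient.out_eq' q']
    apply Quotient.sound'
    refine ⟨(y q)⁻¹ * y q', Subtype.ext ?_⟩
    change ((y q)⁻¹ * y q') • (Quotient.out q').1 = (Quotient.out q).1
    rw [mul_smul, ← h2, inv_smul_smul]
  have h1 := Nat.card_le_card_of_injective σ hinj
  rw [Nat.card_eq_fintype_card (α := X), Fintype.card_coe] at h1
  exact h1

section

variable [Fintype Ω]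

omit [Fintype Ω] in
theorem ncard_orbit_mul_le [Finite G] (H : Subgroup G) (I : Finset Ω) (hH : ∀ g ∈ H, g • I = I) :
    (orbit G I).ncard * Nat.card H ≤ Nat.card G := by
  rw [← index_stabilizer, mul_comm, ← (stabilizer G I).card_mul_index]
  apply Nat.mul_le_mul_right
  have h2 : H ≤ stabilizer G I := fun g hg => hH g hg
  exact Nat.card_le_card_of_injective _ (Subgroup.inclusion_injective h2)

theorem Hom.choose_le_orbit {k : ℕ} (h : Hom G Ω k) (hk : 1 ≤ k) (hn : k ≤ Fintype.card Ω) {I : Finset Ω}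
    (hI : I.card = k - 1) : (Fintype.card Ω).choose (k - 1) ≤ k * (orbit G I).ncard := by
  classical
  obtain ⟨O, hO⟩ : ∃ O : Finset (Finset Ω), O = (Set.toFinite (orbit G I)).toFinset := ⟨_, rfl⟩
  have hOc : O.card = (orbit G I).ncard := by rw [hO, Set.ncard_eq_toFinset_card _ (Set.toFinite (orbit G I))]
  have hmem : ∀ A, A ∈ O ↔ A ∈ orbit G I := fun A => by rw [hO]; exact Set.Finite.mem_toFinset _
  have hcard : ∀ A ∈ O, A.card = k - 1 := by
    intro A hA
    rw [hmem] at hA
    obtain ⟨g, rfl⟩ := hA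
    rw [← hI]
    exact card_smul_finset g I
  have hsub : powersetCard k (univ : Finset Ω) ⊆
      O.biUnion (fun A => Aᶜ.image (fun x => Insert.insert x A)) := by
    intro J hJ
    rw [mem_powersetCard_univ] at hJ
    obtain ⟨g, x, hx, hg⟩ := h.erase hI hJ hk
    rw [mem_biUnion]
    refine ⟨g • I, (hmem _).2 ⟨g, rfl⟩, ?_⟩
    rw [mem_image]
    refine ⟨x, ?_, ?_⟩
    · rw [hg, mem_compl]; exact notMem_erase x J
    · rw [hg, insert_erase hx]
  have h1 := (card_le_card hsub).trans card_biUnion_le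
  have h2 : ∑ A ∈ O, (Aᶜ.image (fun x => Insert.insert x A)).card ≤
      ∑ A ∈ O, (Fintype.card Ω - (k - 1)) := by
    refine Finset.sum_le_sum fun A hA => card_image_le.trans ?_
    rw [card_compl, hcard A hA]
  rw [Finset.sum_const, smul_eq_mul, hOc] at h2
  rw [card_powersetCard, card_univ] at h1
  have h3 := h1.trans h2
  have h4 : (Fintype.card Ω).choose k * k =
      (Fintype.card Ω).choose (k - 1) * (Fintype.card Ω - (k - 1)) := by
    have h5 := Nat.choose_succ_right_eq (Fintype.card Ω) (k - 1)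
    rw [Nat.sub_add_cancel hk] at h5
    exact h5
  have h6 : (Fintype.card Ω).choose (k - 1) * (Fintype.card Ω - (k - 1)) ≤
      k * (orbit G I).ncard * (Fintype.card Ω - (k - 1)) := by
    rw [← h4]
    nlinarith only [h1, h2]
  exact Nat.le_of_mul_le_mul_right h6 (by omega)

theorem Hom.choose_le_orbit' {k : ℕ} (h : Hom G Ω k) (hk : 1 ≤ k) {J : Finset Ω}
    (hJ : J.card = k) : (Fintype.card Ω).choose (k - 1) ≤ k * (orbit G J).ncard := by
  classical
  obtain ⟨O, hO⟩ : ∃ O : Finset (Finset Ω), O = (Set.toFinite (orbit G J)).toFinset := ⟨_, rfl⟩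
  have hOc : O.card = (orbit G J).ncard := by rw [hO, Set.ncard_eq_toFinset_card _ (Set.toFinite (orbit G J))]
  have hmem : ∀ A, A ∈ O ↔ A ∈ orbit G J := fun A => by rw [hO]; exact Set.Finite.mem_toFinset _
  have hcard : ∀ A ∈ O, A.card = k := by
    intro A hA
    rw [hmem] at hA
    obtain ⟨g, rfl⟩ := hA
    rw [← hJ]
    exact card_smul_finset g J
  have hsub : powersetCard (k - 1) (univ : Finset Ω) ⊆
      O.biUnion (fun A => A.image (fun x => A.erase x)) := by
    intro I hI
    rw [mem_powersetCard_univ] at hI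
    obtain ⟨g, x, hx, hg⟩ := h.insert hI hJ hk
    rw [mem_biUnion]
    refine ⟨g • J, (hmem _).2 ⟨g, rfl⟩, ?_⟩
    rw [mem_image]
    exact ⟨x, by rw [hg]; exact mem_insert_self x I, by rw [hg, erase_insert hx]⟩
  have h1 := (card_le_card hsub).trans card_biUnion_le
  have h2 : ∑ A ∈ O, (A.image (fun x => A.erase x)).card ≤ ∑ A ∈ O, k := by
    refine Finset.sum_le_sum fun A hA => card_image_le.trans ?_
    rw [hcard A hA]
  rw [Finset.sum_const, smul_eq_mul, hOc] at h2
  rw [card_powersetCard, card_univ] at h1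
  rw [mul_comm]
  exact h1.trans h2

/-- L2 -/
theorem Hom.choose_mul_card_le [Finite G] {k : ℕ} (h : Hom G Ω k) (hk : 1 ≤ k) (hn : k ≤ Fintype.card Ω)
    (H : Subgroup G) {I : Finset Ω} (hI : I.card = k - 1) (hH : ∀ g ∈ H, g • I = I) :
    (Fintype.card Ω).choose (k - 1) * Nat.card H ≤ k * Nat.card G := by
  have h1 := h.choose_le_orbit hk hn hI
  have h2 := ncard_orbit_mul_le H I hH
  calc _ ≤ k * (orbit G I).ncard * Nat.card H := Nat.mul_le_mul_right _ h1
    _ = k * ((orbit G I).ncard * Nat.card H) := mul_assoc _ _ _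
    _ ≤ _ := Nat.mul_le_mul_left _ h2

/-- L2 for `k`-sets -/
theorem Hom.choose_mul_card_le' [Finite G] {k : ℕ} (h : Hom G Ω k) (hk : 1 ≤ k)
    (H : Subgroup G) {J : Finset Ω} (hJ : J.card = k) (hH : ∀ g ∈ H, g • J = J) :
    (Fintype.card Ω).choose (k - 1) * Nat.card H ≤ k * Nat.card G := by
  have h1 := h.choose_le_orbit' hk hJ
  have h2 := ncard_orbit_mul_le H J hH
  calc _ ≤ k * (orbit G J).ncard * Nat.card H := Nat.mul_le_mul_right _ h1
    _ = k * ((orbit G J).ncard * Nat.card H) := mul_assoc _ _ _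
    _ ≤ _ := Nat.mul_le_mul_left _ h2

/-- number of orbits and order -/
theorem choose_le_numOrb_mul [Finite G] (j : ℕ) :
    (Fintype.card Ω).choose j ≤ numOrb G Ω j * Nat.card G := by
  classical
  have := finite_orb (G := G) (Ω := Ω) j
  have h1 : Nat.card (Set.powersetCard Ω j) = (Fintype.card Ω).choose j := by
    rw [Set.powersetCard.card, Nat.card_eq_fintype_card]
  rw [← h1, numOrb, ← Nat.card_prod]
  refine Nat.card_le_card_of_surjective
    (fun x : orbitRel.Quotient G (Set.powersetCard Ω j) × G => x.2 • Quotient.out x.1) ?_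
  intro A
  obtain ⟨g, hg⟩ := Quotient.exact' (Quotient.out_eq' (Quotient.mk'' A : orbitRel.Quotient G (Set.powersetCard Ω j)))
  refine ⟨(Quotient.mk'' A, g⁻¹), ?_⟩
  change g⁻¹ • Quotient.out (Quotient.mk'' A : orbitRel.Quotient G (Set.powersetCard Ω j)) = A
  have hg' : g • A = Quotient.out (Quotient.mk'' A : orbitRel.Quotient G (Set.powersetCard Ω j)) := hg
  rw [← hg', inv_smul_smul]

theorem exists_card (j : ℕ) (hj : j ≤ Fintype.card Ω) (A : Finset Ω) (hA : A.card ≤ j) :
    ∃ J : Finset Ω, A ⊆ J ∧ J.card = j := by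
  obtain ⟨J, h1, -, h2⟩ := Finset.exists_subsuperset_card_eq (subset_univ A) hA (by rw [card_univ]; exact hj)
  exact ⟨J, h1, h2⟩

theorem Hom.pretransitive {k : ℕ} (h : Hom G Ω k) (hk : 2 ≤ k) (hn : 2 * k ≤ Fintype.card Ω + 1) :
    IsPretransitive G Ω := by
  classical
  have key : ∀ (S : Finset Ω), (∀ (g : G), ∀ x ∈ S, g • x ∈ S) → S.Nonempty → k ≤ Sᶜ.card → False := by
    intro S hS hne hc
    obtain ⟨a, ha⟩ := hne
    obtain ⟨J, hJS, hJ⟩ := exists_subset_card_eq hc
    obtain ⟨I, haI, hI⟩ := exists_card (k - 1) (by omega) {a} (by rw [card_singleton]; omega)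
    obtain ⟨g, hg⟩ := h I J hI hJ
    have h1 := hJS (hg a (haI (mem_singleton_self a)))
    rw [mem_compl] at h1
    exact h1 (hS g a ha)
  refine ⟨fun a b => ?_⟩
  by_contra hcon
  obtain ⟨S, hS⟩ : ∃ S : Finset Ω, S = univ.filter (fun x => ∃ g : G, g • a = x) := ⟨_, rfl⟩
  have hSm : ∀ x, x ∈ S ↔ ∃ g : G, g • a = x := fun x => by rw [hS, mem_filter]; simp only [_root_.Finset.mem_univ, _root_.true_and]
  have hSi : ∀ (g : G), ∀ x, x ∈ S ↔ g • x ∈ S := by
    intro g x
    rw [hSm, hSm]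
    constructor
    · rintro ⟨y, rfl⟩
      exact ⟨g * y, mul_smul g y a⟩
    · rintro ⟨y, hy⟩
      exact ⟨g⁻¹ * y, by rw [mul_smul, hy, inv_smul_smul]⟩
  have hc := card_compl S
  have hle := card_le_univ S
  by_cases h1 : k ≤ Sᶜ.card
  · exact key S (fun g x hx => (hSi g x).1 hx) ⟨a, (hSm a).2 ⟨1, one_smul _ _⟩⟩ h1
  · refine key Sᶜ ?_ ⟨b, ?_⟩ ?_
    · intro g x hx
      rw [mem_compl] at hx ⊢
      rwa [← hSi g x]
    · rw [mem_compl, hSm]
      exact hcon
    · rw [compl_compl]; omega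

omit [Fintype Ω] in
theorem homog_one [IsPretransitive G Ω] : Homog G Ω 1 := by
  intro I J hI hJ
  obtain ⟨a, rfl⟩ := card_eq_one.1 hI
  obtain ⟨b, rfl⟩ := card_eq_one.1 hJ
  obtain ⟨g, hg⟩ := exists_smul_eq G a b
  exact ⟨g, fun x hx => by rw [mem_singleton.1 hx, hg]; exact mem_singleton_self b⟩

/-- `R(3,3) = 6` -/
theorem ramsey (E : Ω → Ω → Prop) (h6 : 6 ≤ Fintype.card Ω) :
    ∃ x y z : Ω, x ≠ y ∧ x ≠ z ∧ y ≠ z ∧ ((E x y ∧ E x z ∧ E y z) ∨ (¬ E x y ∧ ¬ E x z ∧ ¬ E y z)) := by
  classical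
  obtain ⟨v⟩ : Nonempty Ω := Fintype.card_pos_iff.1 (by omega)
  obtain ⟨N, hN⟩ : ∃ N : Finset Ω, N = (univ.erase v).filter (fun x => E v x) := ⟨_, rfl⟩
  obtain ⟨M, hM⟩ : ∃ M : Finset Ω, M = (univ.erase v).filter (fun x => ¬ E v x) := ⟨_, rfl⟩
  have hc : N.card + M.card = Fintype.card Ω - 1 := by
    rw [hN, hM, card_filter_add_card_filter_not, card_erase_of_mem (mem_univ v), card_univ]
  have hNm : ∀ x, x ∈ N → x ≠ v ∧ E v x := fun x hx => by
    rw [hN, mem_filter, mem_erase] at hx; exact ⟨hx.1.1, hx.2⟩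
  have hMm : ∀ x, x ∈ M → x ≠ v ∧ ¬ E v x := fun x hx => by
    rw [hM, mem_filter, mem_erase] at hx; exact ⟨hx.1.1, hx.2⟩
  by_cases h3 : 2 < N.card
  · obtain ⟨a, b, c, ha, hb, hc', hab, hac, hbc⟩ := two_lt_card_iff.1 h3
    by_cases e1 : E a b
    · exact ⟨v, a, b, (hNm a ha).1.symm, (hNm b hb).1.symm, hab, Or.inl ⟨(hNm a ha).2, (hNm b hb).2, e1⟩⟩
    by_cases e2 : E a c
    · exact ⟨v, a, c, (hNm a ha).1.symm, (hNm c hc').1.symm, hac, Or.inl ⟨(hNm a ha).2, (hNm c hc').2, e2⟩⟩
    by_cases e3 : E b c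
    · exact ⟨v, b, c, (hNm b hb).1.symm, (hNm c hc').1.symm, hbc, Or.inl ⟨(hNm b hb).2, (hNm c hc').2, e3⟩⟩
    exact ⟨a, b, c, hab, hac, hbc, Or.inr ⟨e1, e2, e3⟩⟩
  · obtain ⟨a, b, c, ha, hb, hc', hab, hac, hbc⟩ := two_lt_card_iff.1 (show 2 < M.card by omega)
    by_cases e1 : E a b
    swap
    · exact ⟨v, a, b, (hMm a ha).1.symm, (hMm b hb).1.symm, hab, Or.inr ⟨(hMm a ha).2, (hMm b hb).2, e1⟩⟩
    by_cases e2 : E a c
    swap
    · exact ⟨v, a, c, (hMm a ha).1.symm, (hMm c hc').1.symm, hac, Or.inr ⟨(hMm a ha).2, (hMm c hc').2, e2⟩⟩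
    by_cases e3 : E b c
    swap
    · exact ⟨v, b, c, (hMm b hb).1.symm, (hMm c hc').1.symm, hbc, Or.inr ⟨(hMm b hb).2, (hMm c hc').2, e3⟩⟩
    exact ⟨a, b, c, hab, hac, hbc, Or.inl ⟨e1, e2, e3⟩⟩

open Classical in
/-- twice the number of edges -/
noncomputable def tt (E : Ω → Ω → Prop) (T : Finset Ω) : ℕ := ∑ x ∈ T, ∑ y ∈ T, if E x y then 1 else 0

omit [Fintype Ω] in
theorem tt_smul {E : Ω → Ω → Prop} (hinv : ∀ (g : G) (x y : Ω), E (g • x) (g • y) ↔ E x y) (g : G)
    (T : Finset Ω) : tt E (g • T) = tt E T := by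
  classical
  have h1 : g • T = T.image (fun x => g • x) := rfl
  unfold tt
  rw [h1, Finset.sum_image (fun _ _ _ _ h => MulAction.injective g h)]
  refine Finset.sum_congr rfl fun x _ => ?_
  rw [Finset.sum_image (fun _ _ _ _ h => MulAction.injective g h)]
  refine Finset.sum_congr rfl fun y _ => ?_
  simp only [hinv]

open Classical in
omit [Fintype Ω] in
theorem tt_three {E : Ω → Ω → Prop} (hsym : ∀ x y, E x y → E y x) (hirr : ∀ x, ¬ E x x) {x y z : Ω}
    (hxy : x ≠ y) (hxz : x ≠ z) (hyz : y ≠ z) :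
    tt E {x, y, z} = 2 * ((if E x y then 1 else 0) + (if E x z then 1 else 0) + (if E y z then 1 else 0)) := by
  have h1 : ∀ x y, E x y ↔ E y x := fun x y => ⟨hsym x y, hsym y x⟩
  unfold tt
  have hx : x ∉ ({y, z} : Finset Ω) := by simp [hxy, hxz]
  have hy : y ∉ ({z} : Finset Ω) := by simp [hyz]
  simp only [sum_insert hx, sum_insert hy, sum_singleton, if_neg (hirr _), h1 y x, h1 z x, h1 z y]
  ring

/-- if there are at most two orbits on 3-sets, then `tt` takes at most two values -/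
theorem two_values {E : Ω → Ω → Prop} (hinv : ∀ (g : G) (x y : Ω), E (g • x) (g • y) ↔ E x y)
    (h3 : numOrb G Ω 3 ≤ 2) {T₁ T₂ T₃ : Finset Ω} (h₁ : T₁.card = 3) (h₂ : T₂.card = 3) (h₃ : T₃.card = 3)
    (h12 : tt E T₁ ≠ tt E T₂) (h13 : tt E T₁ ≠ tt E T₃) : tt E T₂ = tt E T₃ := by
  classical
  by_contra h23
  have hfin := finite_orb (G := G) (Ω := Ω) 3
  have hne : ∀ {A B : Finset Ω} (hA : A.card = 3) (hB : B.card = 3), tt E A ≠ tt E B →
      (Quotient.mk'' ⟨A, hA⟩ : orbitRel.Quotient G (Set.powersetCard Ω 3)) ≠ Quotient.mk'' ⟨B, hB⟩ := by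
    intro A B hA hB hAB hq
    obtain ⟨g, hg⟩ := Quotient.exact' hq
    have hg' : g • B = A := congrArg Subtype.val hg
    exact hAB (by rw [← hg', tt_smul hinv])
  let f : Fin 3 → orbitRel.Quotient G (Set.powersetCard Ω 3) :=
    ![Quotient.mk'' ⟨T₁, h₁⟩, Quotient.mk'' ⟨T₂, h₂⟩, Quotient.mk'' ⟨T₃, h₃⟩]
  have hf : Function.Injective f := by
    intro i j hij
    fin_cases i <;> fin_cases j <;> first | rfl | (exfalso; revert hij; simp only [f])
    · exact hne h₁ h₂ h12
    · exact hne h₁ h₃ h13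
    · exact (hne h₁ h₂ h12).symm
    · exact hne h₂ h₃ h23
    · exact (hne h₁ h₃ h13).symm
    · exact (hne h₂ h₃ h23).symm
  have h4 := Nat.card_le_card_of_injective f hf
  rw [Nat.card_eq_fintype_card, Fintype.card_fin] at h4
  unfold numOrb at h3
  omega

theorem graph_case {k : ℕ} (h : Hom G Ω k) (hk : 4 ≤ k) (hn : 2 * k ≤ Fintype.card Ω + 1)
    (E : Ω → Ω → Prop) (hsym : ∀ x y, E x y → E y x) (hirr : ∀ x, ¬ E x x)
    (hinv : ∀ (g : G) (x y : Ω), E (g • x) (g • y) ↔ E x y) (h3 : numOrb G Ω 3 ≤ 2)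
    (hedge : ∃ x y, E x y) (hnon : ∃ x y, x ≠ y ∧ ¬ E x y)
    {x₀ y₀ z₀ : Ω} (hxy : x₀ ≠ y₀) (hxz : x₀ ≠ z₀) (hyz : y₀ ≠ z₀)
    (h0 : ¬ E x₀ y₀ ∧ ¬ E x₀ z₀ ∧ ¬ E y₀ z₀) : False := by
  classical
  have htr := h.pretransitive (by omega) hn
  obtain ⟨a, b, hab⟩ := hedge
  have hneab : a ≠ b := fun h' => hirr a (by rwa [← h'] at hab)
  -- every vertex has a neighbour and a non-neighbour
  have hnb : ∀ x, ∃ y, E x y := by
    intro x
    obtain ⟨g, hg⟩ := exists_smul_eq G a x
    exact ⟨g • b, by rw [← hg, hinv]; exact hab⟩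
  have hnn : ∀ x, ∃ y, x ≠ y ∧ ¬ E x y := by
    intro x
    obtain ⟨c, d, hcd, hE⟩ := hnon
    obtain ⟨g, hg⟩ := exists_smul_eq G c x
    exact ⟨g • d, by rw [← hg]; exact fun h' => hcd (MulAction.injective g h'), by rw [← hg, hinv]; exact hE⟩
  have hc3 : ∀ {x y z : Ω}, x ≠ y → x ≠ z → y ≠ z → ({x, y, z} : Finset Ω).card = 3 :=
    fun h1 h2 h3 => card_eq_three.2 ⟨_, _, _, h1, h2, h3, rfl⟩
  have ht0 : tt E {x₀, y₀, z₀} = 0 := by
    rw [tt_three hsym hirr hxy hxz hyz, if_neg h0.1, if_neg h0.2.1, if_neg h0.2.2]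
  -- all triples with an edge have the same number of edges
  have hval : ∀ {x y z u v w : Ω}, x ≠ y → x ≠ z → y ≠ z → u ≠ v → u ≠ w → v ≠ w → E x y → E u v →
      tt E {x, y, z} = tt E {u, v, w} := by
    intro x y z u v w h1 h2 h4 h5 h6 h7 he1 he2
    refine two_values hinv h3 (hc3 hxy hxz hyz) (hc3 h1 h2 h4) (hc3 h5 h6 h7) ?_ ?_
    · rw [ht0, tt_three hsym hirr h1 h2 h4, if_pos he1]; omega
    · rw [ht0, tt_three hsym hirr h5 h6 h7, if_pos he2]; omega
  have hsymm : ∀ x y, E x y ↔ E y x := fun x y => ⟨hsym x y, hsym y x⟩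
  -- the case of two cliques in the complement
  have hbip : (∀ {x y z : Ω}, x ≠ y → x ≠ z → y ≠ z → E x y →
      (E x z ∧ ¬ E y z) ∨ (¬ E x z ∧ E y z)) → False := by
    intro htwo
    obtain ⟨C, hC⟩ : ∃ C : Finset Ω, C = univ.filter (fun y => ¬ E a y) := ⟨_, rfl⟩
    have hCm : ∀ y, y ∈ C ↔ ¬ E a y := fun y => by rw [hC, mem_filter]; simp
    have hCC : ∀ x ∈ C, ∀ y ∈ C, ¬ E x y := by
      intro x hx y hy he
      rw [hCm] at hx hy
      have hxy' : x ≠ y := fun h' => hirr x (by rwa [← h'] at he)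
      have hxa : x ≠ a := fun h' => hy (by rwa [← h'])
      have hya : y ≠ a := fun h' => hx (by rw [← h']; exact hsym _ _ he)
      rcases htwo hxy' hxa hya he with ⟨h1, -⟩ | ⟨-, h1⟩
      · exact hx (hsym _ _ h1)
      · exact hy (hsym _ _ h1)
    have hDD : ∀ x, x ∉ C → ∀ y, y ∉ C → ¬ E x y := by
      intro x hx y hy he
      rw [hCm, not_not] at hx hy
      have hxy' : x ≠ y := fun h' => hirr x (by rwa [← h'] at he)
      have hxa : x ≠ a := fun h' => hirr x (by rwa [← h'] at hx)
      have hya : y ≠ a := fun h' => hirr y (by rwa [← h'] at hy)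
      rcases htwo hxy' hxa hya he with ⟨-, h1⟩ | ⟨h1, -⟩
      · exact h1 (hsym _ _ hy)
      · exact h1 (hsym _ _ hx)
    have hCD : ∀ x ∈ C, ∀ y, y ∉ C → E x y := by
      intro x hx y hy
      have hya' := hy
      rw [hCm, not_not] at hya'
      by_cases hxa : x = a
      · rw [hxa]; exact hya'
      have hay : a ≠ y := fun h' => hirr a (by rwa [← h'] at hya')
      have hxy' : y ≠ x := fun h' => hy (h' ▸ hx)
      rw [hCm] at hx
      rcases htwo hay (Ne.symm hxa) hxy' hya' with ⟨h1, -⟩ | ⟨-, h1⟩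
      · exact absurd h1 hx
      · exact hsym _ _ h1
    -- an independent set of size `k-1`
    obtain ⟨I, hI, hIind⟩ : ∃ I : Finset Ω, I.card = k - 1 ∧ ∀ x ∈ I, ∀ y ∈ I, ¬ E x y := by
      have hcc := card_compl C
      have hle := card_le_univ C
      by_cases h1 : k - 1 ≤ C.card
      · obtain ⟨I, hIC, hI⟩ := exists_subset_card_eq h1
        exact ⟨I, hI, fun x hx y hy => hCC x (hIC hx) y (hIC hy)⟩
      · obtain ⟨I, hIC, hI⟩ := exists_subset_card_eq (show k - 1 ≤ Cᶜ.card by omega)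
        exact ⟨I, hI, fun x hx y hy => hDD x (mem_compl.1 (hIC hx)) y (mem_compl.1 (hIC hy))⟩
    obtain ⟨a', haa', hna'⟩ := hnn a
    obtain ⟨b', hbb', hnb'⟩ := hnn b
    have haC : a ∈ C := (hCm a).2 (hirr a)
    have ha'C : a' ∈ C := (hCm a').2 hna'
    have hbC : b ∉ C := fun h' => (hCm b).1 h' hab
    have hb'C : b' ∉ C := fun h' => hnb' (hsym _ _ (hCD b' h' b hbC))
    have hcard4 : ({a, a', b, b'} : Finset Ω).card ≤ k := by
      refine le_trans card_le_four hk
    obtain ⟨J, hJs, hJ⟩ := exists_card k (by omega) _ hcard4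
    obtain ⟨g, x, hx, hg⟩ := h.erase hI hJ (by omega)
    have hgi : ∀ u ∈ g • I, ∀ v ∈ g • I, ¬ E u v := by
      intro u hu v hv
      obtain ⟨u', hu', rfl⟩ := mem_smul_finset.1 hu
      obtain ⟨v', hv', rfl⟩ := mem_smul_finset.1 hv
      rw [hinv]
      exact hIind u' hu' v' hv'
    rw [hg] at hgi
    have haJ : a ∈ J := hJs (by simp)
    have ha'J : a' ∈ J := hJs (by simp)
    have hbJ : b ∈ J := hJs (by simp)
    have hb'J : b' ∈ J := hJs (by simp)
    obtain ⟨u, huC, hu⟩ : ∃ u ∈ C, u ∈ J.erase x := by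
      by_cases h1 : x = a
      · exact ⟨a', ha'C, mem_erase.2 ⟨fun h' => haa' (by rw [← h1, ← h']), ha'J⟩⟩
      · exact ⟨a, haC, mem_erase.2 ⟨fun h' => h1 h'.symm, haJ⟩⟩
    obtain ⟨v, hvC, hv⟩ : ∃ v, v ∉ C ∧ v ∈ J.erase x := by
      by_cases h1 : x = b
      · exact ⟨b', hb'C, mem_erase.2 ⟨fun h' => hbb' (by rw [← h1, ← h']), hb'J⟩⟩
      · exact ⟨b, hbC, mem_erase.2 ⟨fun h' => h1 h'.symm, hbJ⟩⟩
    exact hgi u hu v hv (hCD u huC v hvC)
  -- the type of one triple
  obtain ⟨c, hc⟩ : ∃ c, c ∉ ({a, b} : Finset Ω) := by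
    by_contra hcon
    push Not at hcon
    have h1 : (univ : Finset Ω) ⊆ {a, b} := fun x _ => hcon x
    have h2 := card_le_card h1
    rw [card_univ] at h2
    have h4 : ({a, b} : Finset Ω).card ≤ 2 := card_le_two
    omega
  simp only [mem_insert, mem_singleton, not_or] at hc
  obtain ⟨hca, hcb⟩ := hc
  have hT := tt_three hsym hirr hneab (Ne.symm hca) (Ne.symm hcb)
  rw [if_pos hab] at hT
  by_cases eac : E a c
  · by_cases ebc : E b c
    · -- every triple with an edge is a triangle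
      obtain ⟨d, had, hnad⟩ := hnn a
      have hbd : b ≠ d := fun h' => hnad (by rwa [← h'])
      have h1 := hval hneab had hbd hneab (Ne.symm hca) (Ne.symm hcb) hab hab
      rw [tt_three hsym hirr hneab had hbd, hT, if_pos hab, if_neg hnad, if_pos eac, if_pos ebc] at h1
      split_ifs at h1 <;> omega
    · -- exactly two edges
      have htwo : ∀ {x y z : Ω}, x ≠ y → x ≠ z → y ≠ z → E x y →
          (E x z ∧ ¬ E y z) ∨ (¬ E x z ∧ E y z) := by
        intro x y z h1 h2 h4 he
        have h5 := hval h1 h2 h4 hneab (Ne.symm hca) (Ne.symm hcb) he hab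
        rw [tt_three hsym hirr h1 h2 h4, hT, if_pos he, if_pos eac, if_neg ebc] at h5
        by_cases e1 : E x z <;> by_cases e2 : E y z
        · rw [if_pos e1, if_pos e2] at h5; omega
        · exact Or.inl ⟨e1, e2⟩
        · exact Or.inr ⟨e1, e2⟩
        · rw [if_neg e1, if_neg e2] at h5; omega
      exact hbip htwo
  · by_cases ebc : E b c
    · -- exactly two edges
      have htwo : ∀ {x y z : Ω}, x ≠ y → x ≠ z → y ≠ z → E x y →
          (E x z ∧ ¬ E y z) ∨ (¬ E x z ∧ E y z) := by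
        intro x y z h1 h2 h4 he
        have h5 := hval h1 h2 h4 hneab (Ne.symm hca) (Ne.symm hcb) he hab
        rw [tt_three hsym hirr h1 h2 h4, hT, if_pos he, if_neg eac, if_pos ebc] at h5
        by_cases e1 : E x z <;> by_cases e2 : E y z
        · rw [if_pos e1, if_pos e2] at h5; omega
        · exact Or.inl ⟨e1, e2⟩
        · exact Or.inr ⟨e1, e2⟩
        · rw [if_neg e1, if_neg e2] at h5; omega
      exact hbip htwo
    · -- a matching
      have hone : ∀ {x y z : Ω}, y ≠ z → E x y → ¬ E x z := by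
        intro x y z h4 he he'
        have h1 : x ≠ y := fun h' => hirr x (by rwa [← h'] at he)
        have h2 : x ≠ z := fun h' => hirr x (by rwa [← h'] at he')
        have h5 := hval h1 h2 h4 hneab (Ne.symm hca) (Ne.symm hcb) he hab
        rw [tt_three hsym hirr h1 h2 h4, hT, if_pos he, if_pos he', if_neg eac, if_neg ebc] at h5
        split_ifs at h5 <;> omega
      obtain ⟨S, hS, hSmax⟩ := exists_max_image
        ((univ : Finset (Finset Ω)).filter (fun S => ∀ x ∈ S, ∀ y ∈ S, ¬ E x y)) card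
        ⟨∅, by simp only [_root_.Finset.mem_filter, _root_.Finset.mem_univ, _root_.Finset.notMem_empty, _root_.IsEmpty.forall_iff, _root_.implies_true, _root_.and_self]⟩
      simp only [mem_filter, mem_univ, true_and] at hS hSmax
      have hnbS : ∀ v, v ∉ S → ∃ s ∈ S, E v s := by
        intro v hv
        by_contra hcon
        push Not at hcon
        have h1 := hSmax (Insert.insert v S) (by
          intro x hx y hy
          rw [mem_insert] at hx hy
          rcases hx with rfl | hx <;> rcases hy with rfl | hy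
          · exact hirr _
          · exact hcon y hy
          · exact fun h' => hcon x hx (hsym _ _ h')
          · exact hS x hx y hy)
        rw [card_insert_of_notMem hv] at h1
        omega
      have hle : Sᶜ.card ≤ S.card := by
        have hex : ∀ v : (Sᶜ : Finset Ω), ∃ s : S, E v s := by
          rintro ⟨v, hv⟩
          obtain ⟨s, hs, he⟩ := hnbS v (mem_compl.1 hv)
          exact ⟨⟨s, hs⟩, he⟩
        choose σ hσ using hex
        have hinj : Function.Injective σ := by
          intro v w hvw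
          by_contra hne
          have h1 : (v : Ω) ≠ w := fun h' => hne (Subtype.ext h')
          exact hone h1 (hsym _ _ (hσ v)) (by rw [hvw]; exact hsym _ _ (hσ w))
        have := Fintype.card_le_of_injective σ hinj
        rwa [Fintype.card_coe, Fintype.card_coe] at this
      rw [card_compl] at hle
      obtain ⟨J, hJS, hJ⟩ := exists_subset_card_eq (show k ≤ S.card by omega)
      obtain ⟨I, hIs, hI⟩ := exists_card (k - 1) (by omega) {a, b} (le_trans card_le_two (by omega))
      obtain ⟨g, hg⟩ := h I J hI hJ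
      exact hS _ (hJS (hg a (hIs (by simp)))) _ (hJS (hg b (hIs (by simp)))) ((hinv g a b).2 hab)

/-- **`(k-1,k)`-homogeneous groups are 2-homogeneous.** -/
theorem Hom.two_homog {k : ℕ} (h : Hom G Ω k) (hk : 3 ≤ k) (hn : 2 * k ≤ Fintype.card Ω + 1)
    (hex : ¬ (Fintype.card Ω = 5 ∧ k = 3)) : Homog G Ω 2 := by
  classical
  have htr := h.pretransitive (by omega) hn
  have hone : Homog G Ω 1 := homog_one
  by_contra hnot
  obtain ⟨I, J, hI, hJ, hIJ⟩ : ∃ I J : Finset Ω, I.card = 2 ∧ J.card = 2 ∧ ∀ g : G, g • I ≠ J := by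
    by_contra hcon
    push Not at hcon
    exact hnot (homog_of_exists hcon)
  obtain ⟨a, b, hab, rfl⟩ := card_eq_two.1 hI
  obtain ⟨c, d, hcd, rfl⟩ := card_eq_two.1 hJ
  have hsm : ∀ (g : G) (x y : Ω), g • ({x, y} : Finset Ω) = {g • x, g • y} := by
    intro g x y
    rw [smul_finset_insert, smul_finset_singleton]
  obtain ⟨E, hE⟩ : ∃ E : Ω → Ω → Prop, ∀ x y, E x y ↔ (x ≠ y ∧ ∃ g : G, g • ({a, b} : Finset Ω) = {x, y}) :=
    ⟨fun x y => x ≠ y ∧ ∃ g : G, g • ({a, b} : Finset Ω) = {x, y}, fun _ _ => Iff.rfl⟩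
  have hsym : ∀ x y, E x y → E y x := by
    intro x y hxy
    rw [hE] at hxy ⊢
    rw [pair_comm y x]
    exact ⟨hxy.1.symm, hxy.2⟩
  have hirr : ∀ x, ¬ E x x := fun x hx => ((hE x x).1 hx).1 rfl
  have hinv : ∀ (g : G) (x y : Ω), E (g • x) (g • y) ↔ E x y := by
    intro g x y
    rw [hE, hE]
    constructor
    · rintro ⟨h1, g', hg'⟩
      refine ⟨fun h' => h1 (by rw [h']), g⁻¹ * g', ?_⟩
      rw [mul_smul, hg', ← hsm, inv_smul_smul]
    · rintro ⟨h1, g', hg'⟩
      refine ⟨fun h' => h1 (MulAction.injective g h'), g * g', ?_⟩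
      rw [mul_smul, hg', hsm]
  have hEab : E a b := (hE a b).2 ⟨hab, 1, one_smul _ _⟩
  have hEcd : ¬ E c d := fun h' => by
    obtain ⟨-, g, hg⟩ := (hE c d).1 h'
    exact hIJ g hg
  obtain ⟨x, y, z, hxy, hxz, hyz, hR⟩ := ramsey E (by omega)
  rcases Nat.lt_or_ge k 4 with hk4 | hk4
  · have hk3 : k = 3 := by omega
    subst hk3
    have hT : ({x, y, z} : Finset Ω).card = 3 := card_eq_three.2 ⟨_, _, _, hxy, hxz, hyz, rfl⟩
    rcases hR with ⟨h1, h2, h4⟩ | ⟨h1, h2, h4⟩
    · obtain ⟨g, hg⟩ := h {c, d} {x, y, z} hJ hT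
      have e1 := hg c (by simp)
      have e2 := hg d (by simp)
      have e3 : ¬ E (g • c) (g • d) := by rw [hinv]; exact hEcd
      have e4 : g • c ≠ g • d := fun h' => hcd (MulAction.injective g h')
      simp only [mem_insert, mem_singleton] at e1 e2
      rcases e1 with e1 | e1 | e1 <;> rcases e2 with e2 | e2 | e2 <;> rw [e1, e2] at e3 e4 <;>
        first
          | exact e4 rfl
          | exact e3 h1
          | exact e3 h2
          | exact e3 h4
          | exact e3 (hsym _ _ h1)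
          | exact e3 (hsym _ _ h2)
          | exact e3 (hsym _ _ h4)
    · obtain ⟨g, hg⟩ := h {a, b} {x, y, z} hI hT
      have e1 := hg a (by simp)
      have e2 := hg b (by simp)
      have e3 : E (g • a) (g • b) := by rw [hinv]; exact hEab
      have e4 : g • a ≠ g • b := fun h' => hab (MulAction.injective g h')
      simp only [mem_insert, mem_singleton] at e1 e2
      rcases e1 with e1 | e1 | e1 <;> rcases e2 with e2 | e2 | e2 <;> rw [e1, e2] at e3 e4 <;>
        first
          | exact e4 rfl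
          | exact h1 e3
          | exact h2 e3
          | exact h4 e3
          | exact h1 (hsym _ _ e3)
          | exact h2 (hsym _ _ e3)
          | exact h4 (hsym _ _ e3)
  · have h3 : numOrb G Ω 3 ≤ 2 := numOrb_le_level h hn (by omega) (by omega) hone hnot (by omega)
    rcases hR with hR | hR
    · -- the complement
      refine graph_case h hk4 hn (fun u v => u ≠ v ∧ ¬ E u v) ?_ ?_ ?_ h3 ⟨c, d, hcd, hEcd⟩
        ⟨a, b, hab, fun h' => h'.2 hEab⟩ hxy hxz hyz ?_
      · exact fun u v huv => ⟨huv.1.symm, fun h' => huv.2 (hsym _ _ h')⟩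
      · exact fun u hu => hu.1 rfl
      · intro g u v
        rw [hinv]
        constructor
        · exact fun h1 => ⟨fun h' => h1.1 (by rw [h']), h1.2⟩
        · exact fun h1 => ⟨fun h' => h1.1 (MulAction.injective g h'), h1.2⟩
      · exact ⟨fun h' => h'.2 hR.1, fun h' => h'.2 hR.2.1, fun h' => h'.2 hR.2.2⟩
    · exact graph_case h hk4 hn E hsym hirr hinv h3 ⟨a, b, hEab⟩ ⟨c, d, hcd, hEcd⟩ hxy hxz hyz hR

/-- **The level of non-homogeneity.** -/
theorem Hom.exists_level {k : ℕ} (h : Hom G Ω k) (hk : 3 ≤ k) (hn : 2 * k ≤ Fintype.card Ω + 1)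
    (hex : ¬ (Fintype.card Ω = 5 ∧ k = 3)) (hnot : ¬ Homog G Ω (k - 1)) :
    ∃ s, 3 ≤ s ∧ s ≤ k - 1 ∧ Homog G Ω (s - 1) ∧ ¬ Homog G Ω s ∧ (∀ j ≤ k - 1, numOrb G Ω j ≤ s) ∧
      (k - s) * (Fintype.card Ω - (k - 1) - s) ≤
        (k - numOrb G Ω (k - 1)) * (Fintype.card Ω - (k - 1) - numOrb G Ω k) := by
  classical
  have h2 := h.two_homog hk hn hex
  have hP : ∃ s, s ≤ k - 1 ∧ ¬ Homog G Ω s := ⟨k - 1, le_rfl, hnot⟩
  obtain ⟨hs1, hs2⟩ := Nat.find_spec hP
  have hmin : ∀ j, j < Nat.find hP → Homog G Ω j := by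
    intro j hj
    have := Nat.find_min hP hj
    push Not at this
    exact this (by omega)
  have hs3 : 3 ≤ Nat.find hP := by
    by_contra hcon
    push Not at hcon
    exact hs2 (h2.mono (by omega) (by omega))
  exact ⟨Nat.find hP, hs3, hs1, hmin _ (by omega), hs2,
    fun j hj => numOrb_le_level h hn (by omega) hs1 (hmin _ (by omega)) hs2 hj,
    spectral h hn (by omega) hs1 (hmin _ (by omega)) hs2⟩

end

end Cfsg.Agent.H397.KHom
end

-- part: H391/KOrb
section
/-!
# Tools for the rows of S3564 (helper391)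

* `exists_sub_orbit` : if `p^a` divides the length of an orbit of `H`, some subgroup has an orbit of length `p^a`;
* `exists_orbit_of_orderOf` : an element of order `p^a` (faithful action) has an orbit of length `p^a`;
* `exists_orbit_six` : an element `g` with `g^6 = 1` and `#fix(g^2) + #fix(g^3) < n` has an orbit of length 6;
* `bound` : order bounds for `Hom G Ω k` and not `Homog (k-1)`.
-/

set_option autoImplicit false
set_option linter.unusedSectionVars false

namespace Cfsg.Agent.H391.KOrb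

open MulAction Cfsg.Agent.H397.KHom Cfsg.Agent.H384.TwoTrans

section orbits

variable {G Ω : Type*} [Group G] [MulAction G Ω]

theorem card_stab_eq (K : Subgroup G) (x : Ω) : Nat.card (stabilizer K x) = Nat.card ↥(K ⊓ stabilizer G x) := by
  have h1 : (stabilizer K x).map K.subtype = K ⊓ stabilizer G x := by
    ext g
    simp only [Subgroup.mem_map, Subgroup.mem_inf, mem_stabilizer_iff, Subgroup.coe_subtype]
    constructor
    · rintro ⟨k, hk, rfl⟩
      exact ⟨k.2, hk⟩
    · rintro ⟨hg, hx⟩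
      exact ⟨⟨g, hg⟩, hx, rfl⟩
  rw [← h1]
  exact (Subgroup.card_map_of_injective K.subtype_injective).symm

theorem ncard_orbit_mul (K : Subgroup G) (x : Ω) :
    (orbit K x).ncard * Nat.card ↥(K ⊓ stabilizer G x) = Nat.card K := by
  rw [← card_stab_eq, ← Nat.card_coe_set_eq, ← Nat.card_congr (orbitEquivQuotientStabilizer K x).symm]
  exact (Subgroup.card_eq_card_quotient_mul_card_subgroup (stabilizer K x)).symm

theorem exists_sub_orbit [Finite G] (H : Subgroup G) (x : Ω) {p a : ℕ} (hp : p.Prime)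
    (h : p ^ a ∣ (orbit H x).ncard) : ∃ Q : Subgroup G, Q ≤ H ∧ (orbit Q x).ncard = p ^ a := by
  classical
  have hfp : Fact p.Prime := ⟨hp⟩
  obtain ⟨P⟩ : Nonempty (Sylow p H) := inferInstance
  set Q₀ : Subgroup G := (P : Subgroup H).map H.subtype with hQ₀
  have hQH : Q₀ ≤ H := Subgroup.map_subtype_le _
  have hPcard : Nat.card Q₀ = p ^ (Nat.card H).factorization p := by
    rw [hQ₀, Subgroup.card_map_of_injective H.subtype_injective]
    exact P.card_eq_multiplicity
  have h1 := ncard_orbit_mul H x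
  have h2 := ncard_orbit_mul Q₀ x
  obtain ⟨b, hb, hb'⟩ := (Nat.dvd_prime_pow hp).1 (show Nat.card ↥(Q₀ ⊓ stabilizer G x) ∣
      p ^ (Nat.card H).factorization p by rw [← hPcard]; exact Dvd.intro_left _ h2)
  have hdvd : p ^ b ∣ Nat.card ↥(H ⊓ stabilizer G x) := by
    rw [← hb']
    exact Subgroup.card_dvd_of_le (inf_le_inf_right _ hQH)
  have hle : a + b ≤ (Nat.card H).factorization p := by
    have h3 : p ^ (a + b) ∣ Nat.card H := by
      rw [pow_add, ← h1]
      exact Nat.mul_dvd_mul h hdvd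
    exact (hp.pow_dvd_iff_le_factorization Nat.card_pos.ne').1 h3
  -- the intermediate subgroup
  obtain ⟨K, hK, hKle⟩ := Sylow.exists_subgroup_card_pow_prime_le (G := Q₀) p (n := b) (m := a + b)
    (by rw [hPcard]; exact pow_dvd_pow p hle) ((stabilizer G x).subgroupOf Q₀) (by
      rw [← hb', ← card_stab_eq]; rfl) (by omega)
  refine ⟨K.map Q₀.subtype, (Subgroup.map_subtype_le _).trans hQH, ?_⟩
  have h3 := ncard_orbit_mul (K.map Q₀.subtype) x
  have h4 : K.map Q₀.subtype ⊓ stabilizer G x = Q₀ ⊓ stabilizer G x := by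
    apply le_antisymm
    · exact inf_le_inf_right _ (Subgroup.map_subtype_le _)
    · rintro g ⟨hg, hgx⟩
      exact ⟨⟨⟨g, hg⟩, hKle hgx, rfl⟩, hgx⟩
  rw [h4, hb', Subgroup.card_map_of_injective Q₀.subtype_injective, hK, pow_add] at h3
  exact Nat.eq_of_mul_eq_mul_right (pow_pos hp.pos b) h3

/-- an element of order `p^(a+1)` has an orbit of this length -/
theorem exists_orbit_of_orderOf [Finite G] [FaithfulSMul G Ω] {g : G} {p a : ℕ} (hp : p.Prime)
    (h : orderOf g = p ^ (a + 1)) : ∃ x : Ω, (orbit (Subgroup.zpowers g) x).ncard = p ^ (a + 1) := by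
  have h1 : g ^ p ^ a ≠ 1 := by
    intro h0
    have := orderOf_dvd_of_pow_eq_one h0
    rw [h] at this
    have h2 := Nat.le_of_dvd (pow_pos hp.pos _) this
    have h3 : p ^ a < p ^ (a + 1) := Nat.pow_lt_pow_right hp.one_lt (by omega)
    omega
  obtain ⟨x, hx⟩ : ∃ x : Ω, (g ^ p ^ a) • x ≠ x := by
    by_contra hcon
    push Not at hcon
    exact h1 (eq_of_smul_eq_smul (fun x : Ω => by rw [hcon x, one_smul]))
  refine ⟨x, ?_⟩
  have h2 := ncard_orbit_mul (Subgroup.zpowers g) x
  rw [Nat.card_zpowers, h] at h2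
  obtain ⟨b, hb, hb'⟩ := (Nat.dvd_prime_pow hp).1 (Dvd.intro _ h2)
  rw [hb'] at h2
  rcases hb.lt_or_eq with hlt | heq
  · exfalso
    apply hx
    -- the stabiliser contains g^(p^b)
    have h3 : (orbit (Subgroup.zpowers g) x).ncard = p ^ b := hb'
    let y : Subgroup.zpowers g := ⟨g, Subgroup.mem_zpowers g⟩
    have hy : y ^ p ^ b ∈ stabilizer (Subgroup.zpowers g) x := by
      have hidx : (stabilizer (Subgroup.zpowers g) x).index = p ^ b := by
        rw [Subgroup.index, Nat.card_congr (orbitEquivQuotientStabilizer _ x).symm, Nat.card_coe_set_eq]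
        exact hb'
      have := (stabilizer (Subgroup.zpowers g) x).pow_index_mem y
      rwa [hidx] at this
    have h4 : (g ^ p ^ b) • x = x := hy
    obtain ⟨c, hc⟩ := pow_dvd_pow p (show b ≤ a by omega)
    rw [hc, pow_mul]
    have h5 : ∀ c : ℕ, ((g ^ p ^ b) ^ c) • x = x := by
      intro c
      induction c with
      | zero => rw [pow_zero, one_smul]
      | succ c ih => rw [pow_succ, mul_smul, h4, ih]
    exact h5 c
  · rw [hb', heq]

theorem exists_orbit_six [Finite G] [Finite Ω] {g : G} (h6 : g ^ 6 = 1)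
    (hfix : {x : Ω | (g ^ 2) • x = x}.ncard + {x : Ω | (g ^ 3) • x = x}.ncard < Nat.card Ω) :
    ∃ x : Ω, (orbit (Subgroup.zpowers g) x).ncard = 6 := by
  classical
  obtain ⟨x, hx2, hx3⟩ : ∃ x : Ω, (g ^ 2) • x ≠ x ∧ (g ^ 3) • x ≠ x := by
    by_contra hcon
    push Not at hcon
    have h1 : (Set.univ : Set Ω) ⊆ {x : Ω | (g ^ 2) • x = x} ∪ {x : Ω | (g ^ 3) • x = x} := by
      intro x _
      by_cases h : (g ^ 2) • x = x
      · exact Or.inl h
      · exact Or.inr (hcon x h)
    have h2 := (Set.ncard_le_ncard h1 (Set.toFinite _)).trans (Set.ncard_union_le _ _)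
    rw [Set.ncard_univ] at h2
    omega
  refine ⟨x, ?_⟩
  have h2 := ncard_orbit_mul (Subgroup.zpowers g) x
  rw [Nat.card_zpowers] at h2
  have h7 : orderOf g ∣ 6 := orderOf_dvd_of_pow_eq_one h6
  have h3 : (orbit (Subgroup.zpowers g) x).ncard ∣ 6 := (Dvd.intro _ h2).trans h7
  have hidx : (stabilizer (Subgroup.zpowers g) x).index = (orbit (Subgroup.zpowers g) x).ncard := by
    rw [Subgroup.index, Nat.card_congr (orbitEquivQuotientStabilizer _ x).symm, Nat.card_coe_set_eq]
  have hpow : (g ^ (orbit (Subgroup.zpowers g) x).ncard) • x = x := by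
    let y : Subgroup.zpowers g := ⟨g, Subgroup.mem_zpowers g⟩
    have := (stabilizer (Subgroup.zpowers g) x).pow_index_mem y
    rw [hidx] at this
    exact this
  have h5 : ∀ (c m : ℕ), (g ^ m) • x = x → (g ^ (m * c)) • x = x := by
    intro c m hm
    induction c with
    | zero => rw [mul_zero, pow_zero, one_smul]
    | succ c ih => rw [mul_add, mul_one, pow_add, mul_smul, hm, ih]
  have h8 : (orbit (Subgroup.zpowers g) x).ncard ≤ 6 := Nat.le_of_dvd (by norm_num) h3
  interval_cases hc : (orbit (Subgroup.zpowers g) x).ncard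
  · simp at h3
  · exact absurd (h5 2 1 hpow) hx2
  · exact absurd hpow hx2
  · exact absurd hpow hx3
  · norm_num at h3
  · norm_num at h3
  · rfl

end orbits

section bounds

variable {G Ω : Type*} [Group G] [MulAction G Ω] [DecidableEq Ω] [Fintype Ω]

/-- order bound, `k ≥ 6` -/
theorem bound [Finite G] {k : ℕ} (h : Hom G Ω k) (hk : 6 ≤ k) (hn : 2 * k ≤ Fintype.card Ω + 1)
    (hnot : ¬ Homog G Ω (k - 1)) : (Fintype.card Ω).choose 5 ≤ Nat.card G ∨
      ∀ j ≤ k - 1, (Fintype.card Ω).choose j ≤ 5 * Nat.card G := by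
  obtain ⟨s, hs3, hsk, hs1, hs2, hmono, -⟩ := h.exists_level (by omega) hn (by omega) hnot
  by_cases h5 : s ≤ 5
  · right
    intro j hj
    refine (choose_le_numOrb_mul j).trans (Nat.mul_le_mul_right _ ((hmono j hj).trans h5))
  · left
    have h6 : Homog G Ω 5 := hs1.mono (by omega) (by omega)
    have h7 := homog_iff_numOrb.1 h6
    calc _ ≤ numOrb G Ω 5 * Nat.card G := choose_le_numOrb_mul 5
      _ ≤ 1 * Nat.card G := Nat.mul_le_mul_right _ h7
      _ = _ := one_mul _

/-- order bound, `k = 5` -/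
theorem bound_five [Finite G] (h : Hom G Ω 5) (hn : 9 ≤ Fintype.card Ω)
    (hnot : ¬ Homog G Ω 4) : (Fintype.card Ω).choose 4 ≤ 4 * Nat.card G := by
  obtain ⟨s, hs3, hsk, hs1, hs2, hmono, -⟩ := h.exists_level (by omega) (by omega) (by omega) hnot
  exact (choose_le_numOrb_mul 4).trans (Nat.mul_le_mul_right _ ((hmono 4 (by omega)).trans (by omega)))

/-- a prime power dividing the length of an orbit of a subgroup -/
theorem homog_of_dvd [Finite G] {p a : ℕ} (hp : p.Prime) (h : Hom G Ω (p ^ a)) (H : Subgroup G) (x : Ω)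
    (hd : p ^ a ∣ (orbit H x).ncard) : Homog G Ω (p ^ a - 1) := by
  obtain ⟨Q, -, hQ⟩ := exists_sub_orbit H x hp hd
  exact h.homog_of_orbit (Nat.one_le_pow _ _ hp.pos) Q x hQ

theorem homog_of_orderOf [Finite G] [FaithfulSMul G Ω] {p a : ℕ} (hp : p.Prime) (h : Hom G Ω (p ^ (a + 1))) {g : G}
    (hg : orderOf g = p ^ (a + 1)) : Homog G Ω (p ^ (a + 1) - 1) := by
  obtain ⟨x, hx⟩ := exists_orbit_of_orderOf (Ω := Ω) hp hg
  exact h.homog_of_orbit (Nat.one_le_pow _ _ hp.pos) _ x hx

/-- `k = p` prime divisor of the order -/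
theorem homog_of_prime_dvd [Finite G] [FaithfulSMul G Ω] {p : ℕ} (hp : p.Prime) (h : Hom G Ω p)
    (hg : p ∣ Nat.card G) : Homog G Ω (p - 1) := by
  have : Fact p.Prime := ⟨hp⟩
  obtain ⟨g, hg⟩ := exists_prime_orderOf_dvd_card' p hg
  have h1 : Hom G Ω (p ^ (0 + 1)) := by rwa [zero_add, pow_one]
  have := homog_of_orderOf (a := 0) hp h1 (g := g) (by rw [zero_add, pow_one]; exact hg)
  rwa [zero_add, pow_one] at this

end bounds

section AS

universe u v

variable {G : Type u} {Ω : Type v} [Group G] [MulAction G Ω] {T : Subgroup G} [DecidableEq Ω] [Fintype Ω]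

/-- `G_x` is transitive on the other points. -/
theorem orbit_stab (A : AS G Ω T) {x y : Ω} (hxy : y ≠ x) :
    (orbit (stabilizer G x) y).ncard = Fintype.card Ω - 1 := by
  have h1 : orbit (stabilizer G x) y = {x}ᶜ := by
    ext z
    rw [Set.mem_compl_iff, Set.mem_singleton_iff]
    constructor
    · rintro ⟨g, rfl⟩ h0
      have h2 : (g : G) • x = x := g.2
      have h3 : (g : G) • y = x := h0
      exact hxy (smul_left_cancel (g : G) (h3.trans h2.symm))
    · intro hz
      have h2t := A.two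
      rw [is_two_pretransitive_iff] at h2t
      obtain ⟨g, hg1, hg2⟩ := h2t (a := x) (b := y) (c := x) (d := z) hxy.symm (Ne.symm hz)
      exact ⟨⟨g, hg1⟩, hg2⟩
  rw [h1, Set.ncard_compl, Set.ncard_singleton, Nat.card_eq_fintype_card]

/-- `k = p^a` divides `n` or `n - 1`. -/
theorem homog_of_dvd_card (A : AS G Ω T) {p a : ℕ} (hp : p.Prime) (h : Hom G Ω (p ^ a))
    (hd : p ^ a ∣ Fintype.card Ω ∨ p ^ a ∣ Fintype.card Ω - 1) : Homog G Ω (p ^ a - 1) := by
  have := A.finG
  have := Cfsg.Agent.H436.TT.nontrivial_omega A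
  have htr : IsPretransitive G Ω := (Cfsg.Agent.H436.TT.prim A).toIsPretransitive
  obtain ⟨x, y, hxy⟩ := exists_pair_ne Ω
  rcases hd with hd | hd
  · refine homog_of_dvd hp h ⊤ x ?_
    have : orbit (⊤ : Subgroup G) x = Set.univ := by
      ext z
      obtain ⟨g, rfl⟩ := exists_smul_eq G x z
      exact ⟨fun _ => trivial, fun _ => ⟨⟨g, trivial⟩, rfl⟩⟩
    rw [this, Set.ncard_univ, Nat.card_eq_fintype_card]
    exact hd
  · refine homog_of_dvd hp h (stabilizer G x) y ?_
    rw [orbit_stab A hxy.symm]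
    exact hd

end AS

end Cfsg.Agent.H391.KOrb
end

private theorem dce_3beb28c6cc67 : _root_.True := by
  try have : _root_.True := by simp only [_root_.Cfsg.Agent.H397.KHom.numOrb.eq_1]
  try have : _root_.True := by simp only [_root_.Cfsg.Agent.H397.KHom.numOrb.congr_simp]
  exact _root_.True.intro
end

-- part: H447/KRowM23
section
prune_inst 0x2004100002000000000000001c0282000000000b0000410000040480080300000e20b010020801c020244078c008110000390000000000008200011900a0840140021234ad04150009c08001100000000000000000000000000000000000000000000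
set_option linter.all false
open scoped Cfsg.Agent.FastGrp

-- part: H447/KRowTools
section
/-!
# Tools for the sporadic rows of S3564 (helper447)

* `exists_orbit_six_pair` : if `x`, `y` of order 3 commute with an involution `t = (y⁻¹ x)²` then some
  subgroup has an orbit of length 6;
* `homog_of_half` : groups of order at least `n!/2`.
-/

set_option autoImplicit false
set_option linter.unusedSectionVars false

namespace Cfsg.Agent.H447.KRowTools

open MulAction Cfsg.Agent.H397.KHom Cfsg.Agent.H384.TwoTrans Cfsg.Agent.H391.KOrb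

section orbits

variable {G Ω : Type*} [Group G] [MulAction G Ω]

theorem orbit_six_of_ne [Finite G] {g : G} (h6 : g ^ 6 = 1) {x : Ω} (hx2 : (g ^ 2) • x ≠ x)
    (hx3 : (g ^ 3) • x ≠ x) : (orbit (Subgroup.zpowers g) x).ncard = 6 := by
  have h2 := ncard_orbit_mul (Subgroup.zpowers g) x
  rw [Nat.card_zpowers] at h2
  have h7 : orderOf g ∣ 6 := orderOf_dvd_of_pow_eq_one h6
  have h3 : (orbit (Subgroup.zpowers g) x).ncard ∣ 6 := (Dvd.intro _ h2).trans h7
  have hidx : (stabilizer (Subgroup.zpowers g) x).index = (orbit (Subgroup.zpowers g) x).ncard := by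
    rw [Subgroup.index, Nat.card_congr (orbitEquivQuotientStabilizer _ x).symm, Nat.card_coe_set_eq]
  have hpow : (g ^ (orbit (Subgroup.zpowers g) x).ncard) • x = x := by
    let y : Subgroup.zpowers g := ⟨g, Subgroup.mem_zpowers g⟩
    have := (stabilizer (Subgroup.zpowers g) x).pow_index_mem y
    rw [hidx] at this
    exact this
  have h5 : ∀ (c m : ℕ), (g ^ m) • x = x → (g ^ (m * c)) • x = x := by
    intro c m hm
    induction c with
    | zero => rw [mul_zero, pow_zero, one_smul]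
    | succ c ih => rw [mul_add, mul_one, pow_add, mul_smul, hm, ih]
  have h8 : (orbit (Subgroup.zpowers g) x).ncard ≤ 6 := Nat.le_of_dvd (by norm_num) h3
  interval_cases hc : (orbit (Subgroup.zpowers g) x).ncard
  · simp at h3
  · exact absurd (h5 2 1 hpow) hx2
  · exact absurd hpow hx2
  · exact absurd hpow hx3
  · norm_num at h3
  · norm_num at h3
  · rfl

/-- If two elements `x`, `y` with cube 1 commute with the involution `t = (y⁻¹ x)²`, some cyclic
subgroup has an orbit of length 6. -/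
theorem exists_orbit_six_pair [Finite G] [FaithfulSMul G Ω] {x y t : G} (hx : x ^ 3 = 1)
    (hy : y ^ 3 = 1) (ht : t ^ 2 = 1) (ht1 : t ≠ 1) (hxt : Commute x t) (hyt : Commute y t)
    (hw : t = (y⁻¹ * x) ^ 2) : ∃ (g : G) (a : Ω), (orbit (Subgroup.zpowers g) a).ncard = 6 := by
  obtain ⟨a, ha⟩ : ∃ a : Ω, t • a ≠ a := by
    by_contra hcon
    push Not at hcon
    exact ht1 (FaithfulSMul.eq_of_smul_eq_smul (α := Ω) fun a => by rw [hcon, one_smul])
  have key : ∀ z : G, z ^ 3 = 1 → Commute z t → z • a ≠ a →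
      (orbit (Subgroup.zpowers (z * t)) a).ncard = 6 := by
    intro z hz hzt hza
    have h2 : (z * t) ^ 2 = z ^ 2 := by rw [hzt.mul_pow, ht, mul_one]
    have h3 : (z * t) ^ 3 = t := by
      rw [hzt.mul_pow, hz, one_mul, pow_succ, ht, one_mul]
    apply orbit_six_of_ne
    · rw [show 6 = 2 * 3 from rfl, pow_mul, h2, ← pow_mul, mul_comm, pow_mul, hz, one_pow]
    · rw [h2]
      intro h
      apply hza
      calc z • a = z • (z ^ 2 • a) := by rw [h]
        _ = (z ^ 3) • a := by rw [← mul_smul, ← pow_succ']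
        _ = a := by rw [hz, one_smul]
    · rw [h3]
      exact ha
  by_cases hxa : x • a = a
  · by_cases hya : y • a = a
    · exfalso
      apply ha
      have h1 : y⁻¹ • a = a := by rw [inv_smul_eq_iff, hya]
      rw [hw, pow_two, mul_smul, mul_smul, mul_smul, hxa, h1, hxa, h1]
    · exact ⟨y * t, a, key y hy hyt hya⟩
  · exact ⟨x * t, a, key x hx hxt hxa⟩

end orbits

section half

variable {G Ω : Type*} [Group G] [MulAction G Ω] [DecidableEq Ω] [Fintype Ω]

/-- A subgroup of `Perm Ω` of order at least `n!/2` contains the alternating group; it is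
`j`-homogeneous for `j ≤ n - 2`. -/
theorem homog_of_half [Finite G] [FaithfulSMul G Ω] (hn2 : 2 ≤ Fintype.card Ω)
    (hG : (Fintype.card Ω).factorial ≤ 2 * Nat.card G) {j : ℕ} (hj : j + 2 ≤ Fintype.card Ω) :
    Homog G Ω j := by
  have hnt : Nontrivial Ω := Fintype.one_lt_card_iff_nontrivial.1 (by omega)
  set R := (toPermHom G Ω).range with hR
  have hRc : Nat.card R = Nat.card G := by
    rw [hR]
    exact (Nat.card_congr (MonoidHom.ofInjective (f := toPermHom G Ω)
      MulAction.toPerm_injective).toEquiv).symm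
  have hle : alternatingGroup Ω ≤ R := by
    have h1 := R.card_mul_index
    rw [hRc, Nat.card_eq_fintype_card (α := Equiv.Perm Ω), Fintype.card_perm] at h1
    have hpos : 0 < Nat.card G := Nat.card_pos
    have h3 : R.index ≤ 2 := by
      by_contra hcon
      have : Nat.card G * 3 ≤ Nat.card G * R.index := Nat.mul_le_mul_left _ (by omega)
      omega
    have h4 : R.index ≠ 0 := Subgroup.index_ne_zero_of_finite
    rcases (show R.index = 1 ∨ R.index = 2 by omega) with h5 | h5
    · rw [Subgroup.index_eq_one.1 h5]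
      exact le_top
    · exact (Equiv.Perm.eq_alternatingGroup_of_index_eq_two h5).ge
  have h1 := alternatingGroup.isMultiplyPretransitive Ω
  have h2 : IsMultiplyPretransitive (alternatingGroup Ω) Ω j :=
    isMultiplyPretransitive_of_le (n := Nat.card Ω - 2)
      (by rw [Nat.card_eq_fintype_card]; omega) (by omega)
  intro I J hI hJ
  let ε : I ≃ Fin j := Fintype.equivFinOfCardEq (by simpa only [_root_.Fintype.card_coe] using hI)
  let δ : J ≃ Fin j := Fintype.equivFinOfCardEq (by simpa only [_root_.Fintype.card_coe] using hJ)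
  let x : Fin j ↪ Ω := ⟨fun i => (ε.symm i : Ω), fun i j hij => ε.symm.injective (Subtype.ext hij)⟩
  let y : Fin j ↪ Ω := ⟨fun i => (δ.symm i : Ω), fun i j hij => δ.symm.injective (Subtype.ext hij)⟩
  obtain ⟨σ, hσ⟩ := MulAction.exists_smul_eq (alternatingGroup Ω) x y
  obtain ⟨g, hg⟩ := hle σ.2
  refine ⟨g, fun a ha => ?_⟩
  have h4 : (σ • x) (ε ⟨a, ha⟩) = y (ε ⟨a, ha⟩) := by rw [hσ]
  have h5 : (σ • x) (ε ⟨a, ha⟩) = (σ : Equiv.Perm Ω) a := by
    show (σ : Equiv.Perm Ω) ((ε.symm (ε ⟨a, ha⟩) : I) : Ω) = _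
    rw [Equiv.symm_apply_apply]
  have h6 : g • a = (σ : Equiv.Perm Ω) a := by rw [← hg]; rfl
  rw [h6, ← h5, h4]
  exact (δ.symm (ε ⟨a, ha⟩)).2

end half

end Cfsg.Agent.H447.KRowTools
end

-- part: H447/KRowSmall
section
/-!
# Rows `alt`, `psl2_9`, `psl4_2` of S3564 (helper447)
-/

set_option autoImplicit false
set_option linter.unusedSectionVars false

namespace Cfsg.Agent.H447.KRowSmall

open MulAction Cfsg.Agent.H397.KHom Cfsg.Agent.H384.TwoTrans Cfsg.Agent.H391.KOrb
open Cfsg.Agent.H447.KRowTools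

universe u v

variable {G : Type u} {Ω : Type v} [Group G] [MulAction G Ω] {T : Subgroup G} [DecidableEq Ω] [Fintype Ω]

theorem card_le_of (A : AS G Ω T) : Nat.card T ≤ Nat.card G := by
  have := A.finG
  exact Subgroup.card_le_card_group T

theorem row_of_half (A : AS G Ω T) (hT : (Fintype.card Ω).factorial ≤ 2 * Nat.card T) {k : ℕ}
    (hk : 4 ≤ k) (h2k : 2 * k ≤ Fintype.card Ω + 1) : Homog G Ω (k - 1) := by
  have := A.finG
  have := A.faithful
  have h1 := card_le_of A
  exact homog_of_half (by omega) (by omega) (by omega)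

/-- Row `alt`. -/
theorem row_alt (A : AS G Ω T) {n : ℕ} (hn : Nat.card Ω = n) (h5 : 5 ≤ n)
    (e : Nonempty (T ≃* ↥(alternatingGroup (Fin n)))) {k : ℕ}
    (hk : 4 ≤ k) (h2k : 2 * k ≤ Fintype.card Ω + 1) : Homog G Ω (k - 1) := by
  obtain ⟨e⟩ := e
  have hfin : Nontrivial (Fin n) := Fin.nontrivial_iff_two_le.2 (by omega)
  apply row_of_half A _ hk h2k
  rw [Nat.card_congr e.toEquiv, nat_card_alternatingGroup, ← Nat.card_eq_fintype_card, hn,
    Nat.card_eq_fintype_card, Fintype.card_fin]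
  have h2 : 2 ∣ n.factorial := Nat.dvd_factorial (by norm_num) (by omega)
  omega

/-- Row `psl2_9`. -/
theorem row_psl2_9 (A : AS G Ω T) (hn : Nat.card Ω = 6) (F : Type) [Field F] [Fintype F]
    (hF : Fintype.card F = 9) (e : Nonempty (T ≃* Matrix.ProjectiveSpecialLinearGroup (Fin 2) F))
    {k : ℕ} (hk : 4 ≤ k) (h2k : 2 * k ≤ Fintype.card Ω + 1) : Homog G Ω (k - 1) := by
  exfalso
  rw [← Nat.card_eq_fintype_card, hn] at h2k
  omega

/-- Row `psl4_2`. -/
theorem row_psl4_2 (A : AS G Ω T) (hn : Nat.card Ω = 8) (F : Type) [Field F] [Fintype F]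
    (hF : Fintype.card F = 2) (e : Nonempty (T ≃* Matrix.ProjectiveSpecialLinearGroup (Fin 4) F))
    {k : ℕ} (hk : 4 ≤ k) (h2k : 2 * k ≤ Fintype.card Ω + 1) : Homog G Ω (k - 1) := by
  obtain ⟨e⟩ := e
  have h1 := Cfsg.Agent.S0243.result (F := F) rfl 4 (by norm_num)
  rw [hF] at h1
  have h2 : Nat.card (Matrix.ProjectiveSpecialLinearGroup (Fin 4) F) = 20160 := by
    simp only [Fin.prod_univ_four, _root_.Nat.add_one_sub_one, _root_.Nat.gcd_one_right, _root_.one_mul, _root_.Nat.reducePow, _root_.Fin.isValue, _root_.Fin.coe_ofNat_eq_mod, _root_.Nat.zero_mod, _root_.pow_zero, _root_.Nat.one_mod, _root_.pow_one, _root_.Nat.reduceSub, _root_.Nat.reduceMul, _root_.Nat.reduceMod, _root_.Nat.mod_succ] at h1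
    omega
  apply row_of_half A _ hk h2k
  rw [Nat.card_congr e.toEquiv, h2, ← Nat.card_eq_fintype_card, hn]
  decide

end Cfsg.Agent.H447.KRowSmall
end

-- part: H447/MathieuLabel
section
/-!
# Transitive actions of degree 12 and 24 of the Mathieu groups M12 and M24 are standard

For a faithful transitive action of a simple group of order 95040 on 12 points (order 244823040 on
24 points) there is a bijection of the point set with the standard point set carrying the group
into (onto) the standard copy.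
-/

set_option autoImplicit false

namespace Cfsg.Agent.H447.MathieuLabel

open Equiv Equiv.Perm MulAction
open Cfsg.Agent.SporadicA.DegPOne

variable {G Ω : Type*} [Group G] [Finite G] [MulAction G Ω] [FaithfulSMul G Ω] [Fintype Ω]

/-- A labelling under which a given `p`-cycle belongs to the group. -/
theorem exists_label {n p : ℕ} (hcard : Fintype.card Ω = n) (hp : p.Prime)
    (hpG : p ∣ Nat.card G) (hnp : n < 2 * p) (t : Perm (Fin n)) (ht : orderOf t = p) :
    ∃ e : Ω ≃ Fin n, ∃ g : G, ∀ x : Ω, e (g • x) = t (e x) := by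
  classical
  let e0 : Ω ≃ Fin n := Fintype.equivFinOfCardEq hcard
  let φ2 : G →* Perm (Fin n) := (e0.permCongrHom).toMonoidHom.comp (MulAction.toPermHom G Ω)
  have hφ2 : Function.Injective φ2 := (e0.permCongrHom).injective.comp MulAction.toPerm_injective
  have : Fact p.Prime := ⟨hp⟩
  obtain ⟨g, hg⟩ := exists_prime_orderOf_dvd_card' p hpG
  have hσ : orderOf (φ2 g) = p := by rw [orderOf_injective φ2 hφ2, hg]
  have key : ∀ σ : Perm (Fin n), orderOf σ = p → σ.cycleType = {p} := by
    intro σ h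
    obtain ⟨m, hm⟩ := cycleType_prime_order (σ := σ) (by rw [h]; exact hp)
    rw [h] at hm
    have hsum : σ.cycleType.sum ≤ n := by
      rw [sum_cycleType]
      simpa only [_root_.Fintype.card_fin] using Finset.card_le_univ σ.support
    rw [hm, Multiset.sum_replicate, smul_eq_mul] at hsum
    have hm0 : m = 0 := by
      by_contra hne
      have : 2 ≤ m + 1 := by omega
      have := Nat.mul_le_mul_right p this
      omega
    rw [hm, hm0]
    rfl
  have hconj : IsConj (φ2 g) t := by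
    rw [isConj_iff_cycleType_eq, key _ hσ, key _ ht]
  obtain ⟨c, hc⟩ := isConj_iff.1 hconj
  refine ⟨e0.trans c, g, fun x => ?_⟩
  have h1 : φ2 g (e0 x) = e0 (g • x) := by
    show e0 (g • e0.symm (e0 x)) = _
    rw [Equiv.symm_apply_apply]
  show c (e0 (g • x)) = t (c (e0 x))
  rw [← h1, ← hc]
  simp only [_root_.Equiv.Perm.coe_mul, _root_.Equiv.Perm.coe_inv, _root_.Function.comp_apply, _root_.Equiv.symm_apply_apply]

/-- The image of the group in the symmetric group on the labels. -/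
def lab {n : ℕ} (e : Ω ≃ Fin n) : G →* Perm (Fin n) :=
  (e.permCongrHom).toMonoidHom.comp (MulAction.toPermHom G Ω)

omit [Finite G] [FaithfulSMul G Ω] [Fintype Ω] in
theorem lab_apply {n : ℕ} (e : Ω ≃ Fin n) (g : G) (x : Ω) : lab e g (e x) = e (g • x) := by
  show e (g • e.symm (e x)) = _
  rw [Equiv.symm_apply_apply]

omit [Finite G] [Fintype Ω] in
theorem lab_injective {n : ℕ} (e : Ω ≃ Fin n) : Function.Injective (lab (G := G) e) :=
  (e.permCongrHom).injective.comp MulAction.toPerm_injective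

/-- Degree 12. -/
theorem m12_label (hs : IsSimpleGroup G) (hc : Nat.card G = 95040) (hcard : Fintype.card Ω = 12)
    (htr : MulAction.IsPretransitive G Ω) :
    ∃ e : Ω ≃ Fin 12, ∀ g : G, ∃ s ∈ SporadicA.M12Perm.Std, ∀ x : Ω, e (g • x) = s (e x) := by
  obtain ⟨e, g0, hg0⟩ := exists_label (G := G) hcard (by norm_num : Nat.Prime 11)
    (by rw [hc]; norm_num) (by norm_num) SporadicA.Cand12.tP SporadicA.Cand12.orderOf_tP
  have hyp : SporadicA.M12Perm.Hyp (lab (G := G) e).range :=
    { card := by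
        rw [← hc]
        exact (Nat.card_congr (MonoidHom.ofInjective (lab_injective e)).toEquiv).symm
      even := by
        rintro _ ⟨g, rfl⟩
        exact sign_eq_one hs (by rw [hc]; norm_num) _ g
      trans := by
        intro x y
        obtain ⟨g, hg⟩ := MulAction.exists_smul_eq G (e.symm x) (e.symm y)
        refine ⟨lab e g, ⟨g, rfl⟩, ?_⟩
        have h1 := lab_apply e g (e.symm x)
        rw [hg, Equiv.apply_symm_apply, Equiv.apply_symm_apply] at h1
        exact h1
      t_mem := by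
        refine ⟨g0, ?_⟩
        ext1 x
        have h1 := lab_apply e g0 (e.symm x)
        rw [hg0, Equiv.apply_symm_apply] at h1
        exact h1 }
  obtain ⟨σ, h1⟩ := SporadicA.M12Perm.exists_relabel hyp
  refine ⟨e.trans σ, fun g => ⟨σ * lab e g * σ⁻¹, ?_, fun x => ?_⟩⟩
  · rw [← h1]
    exact ⟨lab e g, ⟨g, rfl⟩, rfl⟩
  · show σ (e (g • x)) = σ (lab e g (σ.symm (σ (e x))))
    rw [Equiv.symm_apply_apply, lab_apply]

/-- Degree 24. -/
theorem m24_label (hs : IsSimpleGroup G) (hc : Nat.card G = 244823040)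
    (hcard : Fintype.card Ω = 24) (htr : MulAction.IsPretransitive G Ω) :
    ∃ e : Ω ≃ Cfsg.GolayPt, ∀ g : G, ∃ s ∈ Cfsg.M24, ∀ x : Ω, e (g • x) = s (e x) := by
  obtain ⟨e, g0, hg0⟩ := exists_label (G := G) hcard (by norm_num : Nat.Prime 23)
    (by rw [hc]; norm_num) (by norm_num) SporadicA.Cand24.tP SporadicA.Cand24.orderOf_tP
  have hyp : SporadicA.M24OfIndex.Hyp (lab (G := G) e).range :=
    { card := by
        rw [← hc]
        exact (Nat.card_congr (MonoidHom.ofInjective (lab_injective e)).toEquiv).symm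
      even := by
        rintro _ ⟨g, rfl⟩
        exact sign_eq_one hs (by rw [hc]; norm_num) _ g
      trans := by
        intro x y
        obtain ⟨g, hg⟩ := MulAction.exists_smul_eq G (e.symm x) (e.symm y)
        refine ⟨lab e g, ⟨g, rfl⟩, ?_⟩
        have h1 := lab_apply e g (e.symm x)
        rw [hg, Equiv.apply_symm_apply, Equiv.apply_symm_apply] at h1
        exact h1
      t_mem := by
        refine ⟨g0, ?_⟩
        ext1 x
        have h1 := lab_apply e g0 (e.symm x)
        rw [hg0, Equiv.apply_symm_apply] at h1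
        exact h1 }
  obtain ⟨σ, h1, h2, h3, h4⟩ := SporadicA.M24OfIndex.exists_relabel hyp
  let f : G →* Perm Cfsg.GolayPt :=
    (SporadicA.M24OfIndex.ePt.permCongrHom.toMonoidHom).comp
      ((MulAut.conj σ).toMonoidHom.comp (lab e))
  have hf : Function.Injective f :=
    SporadicA.M24OfIndex.ePt.permCongrHom.injective.comp
      ((MulAut.conj σ).injective.comp (lab_injective e))
  have hmem : ∀ g ∈ (lab (G := G) e).range.map (MulAut.conj σ).toMonoidHom,
      SporadicA.M24OfIndex.ePt.permCongrHom g ∈ f.range := by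
    rintro _ ⟨_, ⟨g, rfl⟩, rfl⟩
    exact ⟨g, rfl⟩
  have hle : Cfsg.M24 ≤ f.range := by
    rw [← Cfsg.Agent.S0374.result, Subgroup.closure_le]
    intro g hg
    rcases hg with rfl | rfl | rfl
    · rw [SporadicA.M24OfIndex.shift_eq]; exact hmem _ h1
    · rw [SporadicA.M24OfIndex.projInv_eq]; exact hmem _ h4
    · obtain ⟨i, hi⟩ := SporadicA.M24OfIndex.cubeTwist_eq
      rw [hi]
      exact hmem _ (Subgroup.mul_mem _ (Subgroup.pow_mem _ h2 i) h3)
  have hcardf : Nat.card f.range = 244823040 := by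
    rw [← hc]
    exact (Nat.card_congr (MonoidHom.ofInjective hf).toEquiv).symm
  have heq : Cfsg.M24 = f.range := by
    apply Subgroup.eq_of_le_of_card_ge hle
    rw [hcardf, Cfsg.Agent.S0364.result]
  refine ⟨(e.trans σ).trans SporadicA.M24OfIndex.ePt, fun g => ⟨f g, ?_, fun x => ?_⟩⟩
  · rw [heq]
    exact ⟨g, rfl⟩
  · show SporadicA.M24OfIndex.ePt (σ (e (g • x))) =
      SporadicA.M24OfIndex.ePt (σ (lab e g (σ.symm
        (SporadicA.M24OfIndex.ePt.symm (SporadicA.M24OfIndex.ePt (σ (e x)))))))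
    rw [Equiv.symm_apply_apply, Equiv.symm_apply_apply, lab_apply]

end Cfsg.Agent.H447.MathieuLabel
end

-- part: H447/MathieuUt
section
/-!
# The Mathieu groups M12 and M24 do not have the 6-universal transversal property
-/

set_option autoImplicit false

namespace Cfsg.Agent.H447.MathieuUt

open Equiv Equiv.Perm MulAction
open Cfsg.Agent.SporadicA.DegPOne Cfsg.Agent.SporadicA.Cand12 Cfsg.Agent.SporadicA.M12Perm
open scoped Pointwise

/-- The `k`-universal transversal property. -/
def KUt (G Ω : Type*) [Group G] [MulAction G Ω] (k : ℕ) : Prop :=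
  ∀ (I : Finset Ω) (f : Ω → Fin k), I.card = k → Function.Surjective f →
    ∃ g : G, Set.InjOn (fun x => f (g • x)) ↑I

/-- The hexads of the standard copy of M12, as bit masks. -/
def hexL : List ℕ := [125, 183, 207, 250, 315, 343, 366, 414, 429, 473, 483, 500, 543, 619, 630,
  686, 697, 723, 732, 741, 807, 828, 845, 858, 881, 907, 917, 946, 966, 1000, 1086, 1115, 1127,
  1181, 1195, 1238, 1260, 1265, 1295, 1333, 1372, 1385, 1394, 1427, 1446, 1464, 1477, 1482, 1581,
  1587, 1614, 1621, 1656, 1671, 1690, 1716, 1737, 1762, 1814, 1817, 1834, 1859, 1892, 1932, 1953,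
  2000, 2095, 2142, 2163, 2203, 2236, 2261, 2278, 2281, 2333, 2358, 2379, 2405, 2424, 2439, 2474,
  2481, 2508, 2514, 2613, 2618, 2631, 2649, 2668, 2701, 2710, 2723, 2762, 2800, 2830, 2835, 2857,
  2900, 2914, 2968, 2980, 3009, 3095, 3129, 3149, 3178, 3188, 3214, 3237, 3250, 3267, 3288, 3354,
  3363, 3372, 3398, 3409, 3465, 3476, 3552, 3595, 3612, 3622, 3666, 3681, 3729, 3752, 3780, 3845,
  3888, 3912, 3970]

/-- A set is a hexad. -/
def InB (S : Finset (Fin 12)) : Prop := ∃ m ∈ hexL, ∀ i : Fin 12, i ∈ S ↔ m.testBit i = true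

/-- check of invariance of the list of hexads -/
def chk (f : ℕ → ℕ) : Bool :=
  hexL.all fun m => hexL.any fun m' => (List.range 12).all fun i => m'.testBit (f i) == m.testBit i

/-- the image of a mask -/
private noncomputable def imgM (f : ℕ → ℕ) (m : ℕ) : ℕ :=
  Nat.rec (motive := fun _ => ℕ) 0
    (fun i ih => Nat.lor (Nat.shiftLeft (Nat.land (Nat.shiftRight m i) 1) (f i)) ih) 12

private noncomputable def memL (x : ℕ) (l : List ℕ) : Bool :=
  List.rec (motive := fun _ => Bool) false (fun y _ ih => Bool.rec ih true (Nat.beq x y)) l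

private theorem memL_mem {x : ℕ} : ∀ {l : List ℕ}, memL x l = true → x ∈ l
  | [], h => absurd h Bool.false_ne_true
  | y :: l, h => by
    have h' : Bool.rec (memL x l) true (Nat.beq x y) = true := h
    cases h1 : Nat.beq x y
    · rw [h1] at h'
      exact List.mem_cons_of_mem _ (memL_mem h')
    · rw [Nat.eq_of_beq_eq_true h1]
      exact List.mem_cons_self

private noncomputable def chkF (f : ℕ → ℕ) : Bool :=
  hexL.all fun m => memL (imgM f m) hexL && (List.range 12).all fun i => (imgM f m).testBit (f i) == m.testBit i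

private theorem chk_of {f : ℕ → ℕ} (h : chkF f = true) : chk f = true :=
  List.all_eq_true.2 fun m hm =>
    have h1 := Bool.and_eq_true_iff.1 (List.all_eq_true.1 h m hm)
    List.any_eq_true.2 ⟨imgM f m, memL_mem h1.1, h1.2⟩

theorem chk_t : chk tF = true := chk_of (by decide +kernel)
theorem chk_q : chk qF = true := chk_of (by decide +kernel)
theorem chk_w : chk (cand 2 0 0 1) = true := chk_of (by decide +kernel)
theorem chk_u : chk (cand 1 1 1 2) = true := chk_of (by decide +kernel)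

theorem inB_map {s : Perm (Fin 12)} {f : ℕ → ℕ} (h : Comp s f) (hf : chk f = true)
    {S : Finset (Fin 12)} (hS : InB S) : InB (S.map s.toEmbedding) := by
  obtain ⟨m, hm, hmS⟩ := hS
  have h1 := List.all_eq_true.1 hf m hm
  obtain ⟨m', hm', h2⟩ := List.any_eq_true.1 h1
  refine ⟨m', hm', fun j => ?_⟩
  have h3 := List.all_eq_true.1 h2 ((s.symm j : Fin 12) : ℕ) (List.mem_range.2 (s.symm j).2)
  rw [beq_iff_eq, ← h (s.symm j), Equiv.apply_symm_apply] at h3
  rw [h3, ← hmS]
  constructor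
  · intro hj
    obtain ⟨i, hi, hij⟩ := Finset.mem_map.1 hj
    have : i = s.symm j := by rw [← hij]; simp
    rwa [← this]
  · intro hj
    exact Finset.mem_map.2 ⟨s.symm j, hj, by simp⟩

theorem inB_std {s : Perm (Fin 12)} (hs : s ∈ Std) : ∀ {S : Finset (Fin 12)}, InB S →
    InB (S.map s.toEmbedding) := by
  have h1 : s ∈ Submonoid.closure ({tP, qP, w1, uP} : Set (Perm (Fin 12))) := by
    rw [← Subgroup.closure_toSubmonoid_of_finite]
    exact hs
  clear hs
  induction h1 using Submonoid.closure_induction with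
  | mem x hx =>
    intro S hS
    rcases hx with rfl | rfl | rfl | rfl
    · exact inB_map tP_comp chk_t hS
    · exact inB_map qP_comp chk_q hS
    · exact inB_map w1_comp chk_w hS
    · exact inB_map uP_comp chk_u hS
  | one =>
    intro S hS
    have : S.map (1 : Perm (Fin 12)).toEmbedding = S := by
      ext i
      constructor
      · intro hi
        obtain ⟨a, ha, rfl⟩ := Finset.mem_map.1 hi
        exact ha
      · intro hi
        exact Finset.mem_map.2 ⟨i, hi, rfl⟩
    rwa [this]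
  | mul x y _ _ hx hy =>
    intro S hS
    have h2 := hx (hy hS)
    have : S.map (x * y).toEmbedding = (S.map y.toEmbedding).map x.toEmbedding := by
      rw [Finset.map_map]
      rfl
    rwa [this]

/-- The partition of the 12 points into 6 parts. -/
def part (i : Fin 12) : Fin 6 := ![0, 1, 2, 3, 5, 4, 5, 5, 5, 5, 5, 4] i

theorem part_surj : Function.Surjective part := by
  unfold Function.Surjective
  decide +kernel

theorem part_hex : ∀ m ∈ hexL, ∃ i j : Fin 12, m.testBit i = true ∧ m.testBit j = true ∧ i ≠ j ∧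
    part i = part j := by
  have h1 : ∀ p ∈ ([(5, 11), (4, 6), (4, 7), (4, 8), (4, 9), (4, 10), (6, 7), (6, 8), (6, 9), (6, 10), (7, 8), (7, 9),
      (7, 10), (8, 9), (8, 10), (9, 10)] : List (Fin 12 × Fin 12)), p.1 ≠ p.2 ∧ part p.1 = part p.2 := by decide +kernel
  have h2 : (hexL.all fun m => ([(5, 11), (4, 6), (4, 7), (4, 8), (4, 9), (4, 10), (6, 7), (6, 8), (6, 9), (6, 10), (7, 8),
      (7, 9), (7, 10), (8, 9), (8, 10), (9, 10)] : List (Fin 12 × Fin 12)).any fun p =>
      m.testBit p.1 && m.testBit p.2) = true := by decide +kernel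
  intro m hm
  obtain ⟨p, hp, h3⟩ := List.any_eq_true.1 (List.all_eq_true.1 h2 m hm)
  exact ⟨p.1, p.2, (Bool.and_eq_true_iff.1 h3).1, (Bool.and_eq_true_iff.1 h3).2, h1 p hp⟩

variable {G Ω : Type*} [Group G] [Finite G] [MulAction G Ω] [FaithfulSMul G Ω] [Fintype Ω]

/-- M12 in degree 12 does not have the 6-universal transversal property. -/
theorem not_kut_m12 (hs : IsSimpleGroup G) (hc : Nat.card G = 95040)
    (hcard : Fintype.card Ω = 12) (htr : MulAction.IsPretransitive G Ω) : ¬ KUt G Ω 6 := by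
  intro hk
  obtain ⟨e, he⟩ := MathieuLabel.m12_label hs hc hcard htr
  set I0 : Finset (Fin 12) := Finset.univ.filter fun i => Nat.testBit 125 i = true with hI0
  have hI : InB I0 := ⟨125, by decide, fun i => by simp [hI0]⟩
  have hIc : I0.card = 6 := by rw [hI0]; decide +kernel
  obtain ⟨g, hg⟩ := hk (I0.map e.symm.toEmbedding) (fun x => part (e x))
    (by rw [Finset.card_map, hIc]) (part_surj.comp e.surjective)
  obtain ⟨s, hsS, hsg⟩ := he g
  obtain ⟨m, hm, hmS⟩ := inB_std hsS hI
  obtain ⟨i, j, hi, hj, hij, hp⟩ := part_hex m hm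
  rw [← hmS] at hi hj
  obtain ⟨a, ha, rfl⟩ := Finset.mem_map.1 hi
  obtain ⟨b, hb, rfl⟩ := Finset.mem_map.1 hj
  have h1 : e.symm a = e.symm b := by
    apply hg
    · simpa using ha
    · simpa using hb
    · show part (e (g • e.symm a)) = part (e (g • e.symm b))
      rw [hsg, hsg, Equiv.apply_symm_apply, Equiv.apply_symm_apply]
      exact hp
  exact hij (by rw [e.symm.injective h1])

theorem smul_octad {s : Perm Cfsg.GolayPt} (hs : s ∈ Cfsg.M24) {o : Finset Cfsg.GolayPt}
    (ho : o ∈ Cfsg.octads) : o.map s.toEmbedding ∈ Cfsg.octads := by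
  rw [Cfsg.Agent.S0369.result] at hs
  have h1 : s • Cfsg.octads = Cfsg.octads := hs
  rw [← h1]
  refine ⟨o, ho, ?_⟩
  ext x
  constructor
  · intro hx
    obtain ⟨y, hy, rfl⟩ := Finset.mem_smul_finset.1 hx
    exact Finset.mem_map.2 ⟨y, hy, rfl⟩
  · intro hx
    obtain ⟨y, hy, rfl⟩ := Finset.mem_map.1 hx
    exact Finset.mem_smul_finset.2 ⟨y, hy, rfl⟩

/-- M24 in degree 24 does not have the 6-universal transversal property. -/
theorem not_kut_m24 (hs : IsSimpleGroup G) (hc : Nat.card G = 244823040)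
    (hcard : Fintype.card Ω = 24) (htr : MulAction.IsPretransitive G Ω) : ¬ KUt G Ω 6 := by
  classical
  intro hk
  obtain ⟨e, he⟩ := MathieuLabel.m24_label hs hc hcard htr
  have hst := Cfsg.Agent.S0363.result
  have h24 : (Finset.univ : Finset Cfsg.GolayPt).card = 24 := by
    rw [Finset.card_univ]
    decide
  -- an octad
  obtain ⟨s5, hs5⟩ := Finset.exists_subset_card_eq
    (show 5 ≤ (Finset.univ : Finset Cfsg.GolayPt).card by rw [h24]; norm_num)
  obtain ⟨o, ⟨ho, -⟩, -⟩ := hst.2 s5 hs5.2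
  have ho8 : o.card = 8 := hst.1 o ho
  let ε : o ≃ Fin 8 := Fintype.equivFinOfCardEq (by simpa only [_root_.Fintype.card_coe] using ho8)
  let f : Cfsg.GolayPt → Fin 6 := fun x => if h : x ∈ o then
    (if h4 : ((ε ⟨x, h⟩ : Fin 8) : ℕ) < 4 then ⟨(ε ⟨x, h⟩ : Fin 8), by omega⟩ else 4) else 5
  have hf5 : ∀ x, f x ≠ 5 → x ∈ o := by
    intro x hx
    by_contra hxo
    exact hx (by simp only [f, dif_neg hxo])
  have hfo : ∀ x, x ∈ o → f x ≠ 5 := by
    intro x hx
    simp only [f, dif_pos hx]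
    split_ifs with h4
    · intro h5
      have := congrArg Fin.val h5
      simp at this
      omega
    · decide
  have hfs : Function.Surjective f := by
    intro i
    by_cases hi4 : (i : ℕ) < 4
    · refine ⟨ε.symm ⟨i, by omega⟩, ?_⟩
      simp only [f, Finset.coe_mem, dite_true, Subtype.coe_eta, Equiv.apply_symm_apply, hi4]
    · by_cases hi5 : i = 5
      · obtain ⟨x, hx⟩ : ∃ x, x ∉ o := by
          by_contra hcon
          push Not at hcon
          have : (Finset.univ : Finset Cfsg.GolayPt).card ≤ o.card :=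
            Finset.card_le_card fun x _ => hcon x
          omega
        exact ⟨x, by rw [hi5]; simp only [f, dif_neg hx]⟩
      · have hi : i = 4 := by
          apply Fin.ext
          have h1 : (i : ℕ) ≠ 5 := fun h => hi5 (Fin.ext h)
          have h2 := i.2
          show (i : ℕ) = 4
          omega
        refine ⟨ε.symm 7, ?_⟩
        rw [hi]
        simp only [f, Finset.coe_mem, dite_true, Subtype.coe_eta, Equiv.apply_symm_apply]
        exact dif_neg (by decide)
  obtain ⟨I, hIo, hI6⟩ := Finset.exists_subset_card_eq (show 6 ≤ o.card by omega)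
  obtain ⟨g, hg⟩ := hk (I.map e.symm.toEmbedding) (fun x => f (e x))
    (by rw [Finset.card_map, hI6]) (hfs.comp e.surjective)
  obtain ⟨s, hsS, hsg⟩ := he g
  set J := I.map s.toEmbedding with hJ
  have hJ6 : J.card = 6 := by rw [hJ, Finset.card_map, hI6]
  have hinj : Set.InjOn f ↑J := by
    intro a ha b hb hab
    obtain ⟨a', ha', rfl⟩ := Finset.mem_map.1 (Finset.mem_coe.1 ha)
    obtain ⟨b', hb', rfl⟩ := Finset.mem_map.1 (Finset.mem_coe.1 hb)
    have h1 : e.symm a' = e.symm b' := by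
      apply hg
      · simpa using ha'
      · simpa using hb'
      · show f (e (g • e.symm a')) = f (e (g • e.symm b'))
        rw [hsg, hsg, Equiv.apply_symm_apply, Equiv.apply_symm_apply]
        exact hab
    rw [e.symm.injective h1]
  have himg : J.image f = Finset.univ := by
    apply Finset.eq_univ_of_card
    rw [Finset.card_image_of_injOn hinj, hJ6]
    rfl
  obtain ⟨z, hzJ, hz5⟩ : ∃ z ∈ J, f z = 5 := by
    have : (5 : Fin 6) ∈ J.image f := by rw [himg]; exact Finset.mem_univ _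
    simpa using this
  have hzo : z ∉ o := fun h => hfo z h hz5
  have h5 : 5 ≤ (J.erase z).card := by
    rw [Finset.card_erase_of_mem hzJ, hJ6]
  have hJo : ∀ x ∈ J.erase z, x ∈ o := by
    intro x hx
    obtain ⟨hxz, hxJ⟩ := Finset.mem_erase.1 hx
    apply hf5
    intro h
    exact hxz (hinj (Finset.mem_coe.2 hxJ) (Finset.mem_coe.2 hzJ) (h.trans hz5.symm))
  obtain ⟨F, hF, hF5⟩ := Finset.exists_subset_card_eq h5
  have ho' := smul_octad hsS ho
  have hJo' : J ⊆ o.map s.toEmbedding := Finset.map_subset_map.2 hIo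
  have heq : o.map s.toEmbedding = o := by
    refine (hst.2 F hF5).unique ⟨ho', ?_⟩ ⟨ho, ?_⟩
    · exact fun x hx => hJo' (Finset.mem_of_mem_erase (hF hx))
    · exact fun x hx => hJo x (hF hx)
  exact hzo (by rw [← heq]; exact hJo' hzJ)

end Cfsg.Agent.H447.MathieuUt
end

-- part: H447/KUtMain
section
/-!
# The universal transversal property: the elementary parts
-/

set_option autoImplicit false

namespace Cfsg.Agent.H447.KUtMain

open MulAction
open Cfsg.Agent.H447.MathieuUt
open scoped Pointwise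

section General

variable {G Ω : Type*} [Group G] [MulAction G Ω] [Fintype Ω] [DecidableEq Ω]

/-- The `k`-universal transversal property implies `(k-1,k)`-homogeneity. -/
theorem hom_of_kut {k : ℕ} (hk : 1 ≤ k) (hkn : k ≤ Fintype.card Ω) (h : KUt G Ω k)
    (I J : Finset Ω) (hI : I.card = k - 1) (hJ : J.card = k) : ∃ g : G, ∀ x ∈ I, g • x ∈ J := by
  classical
  let ε : I ≃ Fin (k - 1) := Fintype.equivFinOfCardEq (by simpa only [_root_.Fintype.card_coe] using hI)
  let f : Ω → Fin k := fun x => if hx : x ∈ I then ⟨(ε ⟨x, hx⟩ : Fin (k - 1)), by omega⟩ else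
    ⟨k - 1, by omega⟩
  have hfs : Function.Surjective f := by
    intro i
    by_cases hi : (i : ℕ) < k - 1
    · refine ⟨ε.symm ⟨i, hi⟩, ?_⟩
      simp only [f, Finset.coe_mem, dite_true, Subtype.coe_eta, Equiv.apply_symm_apply]
    · obtain ⟨x, hx⟩ : ∃ x, x ∉ I := by
        by_contra hcon
        push Not at hcon
        have : (Finset.univ : Finset Ω).card ≤ I.card := Finset.card_le_card fun x _ => hcon x
        rw [Finset.card_univ] at this
        omega
      refine ⟨x, ?_⟩
      simp only [f, dif_neg hx]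
      apply Fin.ext
      show k - 1 = (i : ℕ)
      have := i.2
      omega
  obtain ⟨g, hg⟩ := h J f hJ hfs
  refine ⟨g⁻¹, fun x hx => ?_⟩
  have himg : J.image (fun y => f (g • y)) = Finset.univ := by
    apply Finset.eq_univ_of_card
    rw [Finset.card_image_of_injOn hg, hJ, Fintype.card_fin]
  obtain ⟨y, hy, hyx⟩ : ∃ y ∈ J, f (g • y) = f x := by
    have : f x ∈ J.image (fun y => f (g • y)) := by rw [himg]; exact Finset.mem_univ _
    simpa only [_root_.Finset.mem_image] using this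
  have h1 : g • y = x := by
    by_cases hyI : g • y ∈ I
    · simp only [f, dif_pos hx, dif_pos hyI, Fin.mk.injEq] at hyx
      have h2 := ε.injective (Fin.ext hyx)
      exact congrArg Subtype.val h2
    · simp only [f, dif_pos hx, dif_neg hyI, Fin.mk.injEq] at hyx
      have := (ε ⟨x, hx⟩).2
      omega
  rw [← h1, inv_smul_smul]
  exact hy

/-- A group inducing all even permutations has the universal transversal property. -/
theorem kut_of_alt {k : ℕ} (hkn : k + 2 ≤ Fintype.card Ω)
    (h : ∀ σ : Equiv.Perm Ω, σ ∈ alternatingGroup Ω → ∃ g : G, ∀ x : Ω, g • x = σ x) :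
    KUt G Ω k := by
  intro I f hI hf
  have h1 := alternatingGroup.isMultiplyPretransitive Ω
  have h2 : IsMultiplyPretransitive (alternatingGroup Ω) Ω k :=
    isMultiplyPretransitive_of_le (n := Nat.card Ω - 2)
      (by rw [Nat.card_eq_fintype_card]; omega) (by omega)
  let ε : I ≃ Fin k := Fintype.equivFinOfCardEq (by simpa only [_root_.Fintype.card_coe] using hI)
  let x : Fin k ↪ Ω := ⟨fun i => (ε.symm i : Ω), fun i j hij =>
    ε.symm.injective (Subtype.ext hij)⟩
  let y : Fin k ↪ Ω := ⟨Function.surjInv hf, Function.injective_surjInv hf⟩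
  obtain ⟨σ, hσ⟩ := MulAction.exists_smul_eq (alternatingGroup Ω) x y
  obtain ⟨g, hg⟩ := h σ σ.2
  have h3 : ∀ a (ha : a ∈ I), f (g • a) = ε ⟨a, ha⟩ := by
    intro a ha
    have h4 : (σ • x) (ε ⟨a, ha⟩) = y (ε ⟨a, ha⟩) := by rw [hσ]
    have h5 : (σ • x) (ε ⟨a, ha⟩) = (σ : Equiv.Perm Ω) a := by
      show (σ : Equiv.Perm Ω) ((ε.symm (ε ⟨a, ha⟩) : I) : Ω) = _
      rw [Equiv.symm_apply_apply]
    rw [hg, ← h5, h4]
    exact Function.surjInv_eq hf _
  refine ⟨g, fun a ha b hb hab => ?_⟩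
  have ha' := Finset.mem_coe.1 ha
  have hb' := Finset.mem_coe.1 hb
  have h4 : f (g • a) = f (g • b) := hab
  rw [h3 a ha', h3 b hb'] at h4
  exact congrArg Subtype.val (ε.injective h4)

omit [DecidableEq Ω] in
/-- Divisibility from multiple transitivity. -/
theorem descFactorial_dvd [Finite G] {m : ℕ} (hm : m ≤ Fintype.card Ω)
    (ht : IsMultiplyPretransitive G Ω m) :
    (Fintype.card Ω).descFactorial m ∣ Nat.card G := by
  classical
  obtain ⟨x⟩ : Nonempty (Fin m ↪ Ω) := by
    rw [Function.Embedding.nonempty_iff_card_le]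
    simpa only [_root_.Fintype.card_fin] using hm
  have h1 := Subgroup.card_mul_index (MulAction.stabilizer G x)
  rw [MulAction.index_stabilizer_of_transitive, Nat.card_eq_fintype_card (α := Fin m ↪ Ω),
    Fintype.card_embedding_eq, Fintype.card_fin] at h1
  exact ⟨_, by rw [mul_comm]; exact h1.symm⟩

end General

theorem squareDodecad_mem : Cfsg.Spor.squareDodecad ∈ Cfsg.dodecads := by
  have h : Cfsg.Spor.squareDodecad = Cfsg.Agent.SporadicA.M11Comp.sqD := by
    ext x
    rw [Cfsg.Agent.SporadicA.M11Comp.mem_sqD]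
    revert x
    decide +kernel
  rw [h]
  exact Cfsg.Agent.SporadicA.M11Comp.sqD_mem_dodecads

/-- The two descriptions of `M₁₂`. -/
def equivM12 : ↥(MulAction.stabilizer Cfsg.M24 Cfsg.Spor.squareDodecad) ≃* Cfsg.Spor.M12 where
  toFun g := ⟨((g : Cfsg.M24) : Equiv.Perm Cfsg.GolayPt), (g : Cfsg.M24).2, g.2⟩
  invFun g := ⟨⟨(g : Equiv.Perm Cfsg.GolayPt), g.2.1⟩, g.2.2⟩
  left_inv _ := rfl
  right_inv _ := rfl
  map_mul' _ _ := rfl

theorem simple_M12 : IsSimpleGroup Cfsg.Spor.M12 :=
  have := Cfsg.Agent.S0383.result _ squareDodecad_mem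
  equivM12.isSimpleGroup_congr.1 this

theorem card_M12 : Nat.card Cfsg.Spor.M12 = 95040 := by
  rw [← Cfsg.Agent.S0382.result _ squareDodecad_mem]
  exact (Nat.card_congr equivM12.toEquiv).symm

variable {Ω : Type*} [Fintype Ω] [DecidableEq Ω]

/-- The end of the proof: `(k-1)`-homogeneous groups with the universal transversal property,
given the list of 4-transitive groups. -/
theorem main (H : Subgroup (Equiv.Perm Ω)) {k : ℕ} (hk : 6 ≤ k) (hkn : 2 * k ≤ Fintype.card Ω + 1)
    (hut : KUt H Ω k)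
    (hhom : ∀ I J : Finset Ω, I.card = k - 1 → J.card = k - 1 → ∃ g : H, ∀ x ∈ I, g • x ∈ J)
    (hlist : MulAction.IsMultiplyPretransitive H Ω 4 →
      (MulAction.toPermHom H Ω).range = ⊤ ∨ (MulAction.toPermHom H Ω).range = alternatingGroup Ω ∨
      (Fintype.card Ω = 11 ∧ Cfsg.Spor.IsoM11 H) ∨ (Fintype.card Ω = 12 ∧ Cfsg.Spor.IsoM12 H) ∨
      (Fintype.card Ω = 23 ∧ Cfsg.Spor.IsoM23 H) ∨ (Fintype.card Ω = 24 ∧ Cfsg.Spor.IsoM24 H)) :
    alternatingGroup Ω ≤ H := by
  have hpre : MulAction.IsPretransitive H (Set.powersetCard Ω (k - 1)) := by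
    refine ⟨fun I J => ?_⟩
    obtain ⟨g, hg⟩ := hhom (I : Finset Ω) (J : Finset Ω) I.2 J.2
    refine ⟨g, Subtype.ext ?_⟩
    have hc : ((g • I : Set.powersetCard Ω (k - 1)) : Finset Ω) = g • (I : Finset Ω) :=
      Set.powersetCard.coe_smul
    rw [hc]
    apply Finset.eq_of_subset_of_card_le
    · intro y hy
      obtain ⟨x, hx, rfl⟩ := Finset.mem_smul_finset.1 hy
      exact hg x hx
    · rw [Finset.card_smul_finset]
      exact (le_of_eq (J.2.trans I.2.symm))
  have htr := Cfsg.Agent.S0748.result H (by omega) (by omega) hpre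
  have hN : Nat.card Ω = Fintype.card Ω := Nat.card_eq_fintype_card
  have h5 : MulAction.IsMultiplyPretransitive H Ω 5 :=
    isMultiplyPretransitive_of_le (n := k - 1) (by omega) (by rw [hN]; omega)
  have h4 : MulAction.IsMultiplyPretransitive H Ω 4 :=
    isMultiplyPretransitive_of_le (n := k - 1) (by omega) (by rw [hN]; omega)
  have h1 : MulAction.IsMultiplyPretransitive H Ω 1 :=
    isMultiplyPretransitive_of_le (n := k - 1) (by omega) (by rw [hN]; omega)
  have h1' : MulAction.IsPretransitive H Ω := is_one_pretransitive_iff.1 h1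
  have hrange : (MulAction.toPermHom H Ω).range = H := by
    ext σ
    constructor
    · rintro ⟨g, rfl⟩
      have : MulAction.toPermHom H Ω g = (g : Equiv.Perm Ω) := by ext x; rfl
      rw [this]
      exact g.2
    · intro hσ
      exact ⟨⟨σ, hσ⟩, by ext x; rfl⟩
  rcases hlist h4 with h | h | ⟨hn, e⟩ | ⟨hn, e⟩ | ⟨hn, e⟩ | ⟨hn, e⟩
  · rw [hrange] at h
    rw [h]
    exact le_top
  · rw [hrange] at h
    exact h.ge
  · exfalso
    have hd := descFactorial_dvd (G := H) (m := 5) (by omega) h5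
    rw [hn, Nat.card_congr e.some.toEquiv] at hd
    have h2 : Nat.card Cfsg.Spor.M11 ∣ 95040 := by
      rw [← card_M12]
      exact Subgroup.card_dvd_of_le inf_le_left
    have h3 := hd.trans h2
    rw [show Nat.descFactorial 11 5 = 55440 by decide] at h3
    omega
  · exfalso
    obtain ⟨e⟩ := e
    have hs : IsSimpleGroup H := e.isSimpleGroup_congr.2 simple_M12
    have hc : Nat.card H = 95040 := by rw [Nat.card_congr e.toEquiv, card_M12]
    have hk6 : k = 6 := by omega
    subst hk6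
    exact not_kut_m12 hs hc hn h1' hut
  · exfalso
    have hd := descFactorial_dvd (G := H) (m := 5) (by omega) h5
    rw [hn, Nat.card_congr e.some.toEquiv] at hd
    have h2 : Nat.card Cfsg.Spor.M23 ∣ 244823040 := by
      rw [← Cfsg.Agent.S0364.result]
      exact Subgroup.card_dvd_of_le inf_le_left
    have h3 := hd.trans h2
    rw [show Nat.descFactorial 23 5 = 4037880 by decide] at h3
    omega
  · exfalso
    obtain ⟨e⟩ := e
    have hs : IsSimpleGroup H := e.isSimpleGroup_congr.2 Cfsg.Agent.S0365.result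
    have hc : Nat.card H = 244823040 := by rw [Nat.card_congr e.toEquiv, Cfsg.Agent.S0364.result]
    rcases Nat.lt_or_ge k 7 with hk7 | hk7
    · have hk6 : k = 6 := by omega
      subst hk6
      exact not_kut_m24 hs hc hn h1' hut
    · have h6 : MulAction.IsMultiplyPretransitive H Ω 6 :=
        isMultiplyPretransitive_of_le (n := k - 1) (by omega) (by rw [hN]; omega)
      have hd := descFactorial_dvd (G := H) (m := 6) (by omega) h6
      rw [hn, hc, show Nat.descFactorial 24 6 = 96909120 by decide] at hd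
      omega

end Cfsg.Agent.H447.KUtMain
end

-- part: H447/KRowMathieu
section
/-!
# Mathieu rows of S3564 (helper447), first part
-/

set_option autoImplicit false
set_option linter.unusedSectionVars false

namespace Cfsg.Agent.H447.KRowMathieu

open MulAction Cfsg Cfsg.Agent.H397.KHom Cfsg.Agent.H384.TwoTrans Cfsg.Agent.H391.KOrb
open Cfsg.Agent.H447.KRowTools Cfsg.Agent.H447.MElems Cfsg.Agent.H447.KRowSmall
open scoped Pointwise

universe u v

/-- bound for the automorphism group from the outer automorphism group -/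
theorem card_aut_dvd (X : Type*) [Group X] :
    Nat.card (MulAut X) ∣ Nat.card (Cfsg.Out X) * Nat.card X := by
  have h1 : Nat.card (MulAut X) = Nat.card (Cfsg.Out X) * Nat.card (Inn X) :=
    Subgroup.card_eq_card_quotient_mul_card_subgroup (Inn X)
  rw [h1]
  apply Nat.mul_dvd_mul_left
  exact Subgroup.card_range_dvd (MulAut.conj : X →* MulAut X)

variable {G : Type u} {Ω : Type v} [Group G] [MulAction G Ω] {T : Subgroup G} [DecidableEq Ω] [Fintype Ω]

theorem card_dvd_of_out (A : AS G Ω T) {X : Type*} [Group X] (e : T ≃* X) :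
    Nat.card G ∣ Nat.card (Cfsg.Out X) * Nat.card X :=
  ((Cfsg.Agent.H436.TT.card_dvd_aut A).trans (by rw [Nat.card_congr (MulAut.congr e).toEquiv])).trans
    (card_aut_dvd X)

theorem six (A : AS G Ω T) (h : Hom G Ω 6) (hT : SixPair T) : Homog G Ω (6 - 1) := by
  have := A.finG
  have := A.faithful
  obtain ⟨x, y, t, h1, h2, h3, h4, h5, h6, h7⟩ := hT.map T.subtype T.subtype_injective
  obtain ⟨g, a, hga⟩ := exists_orbit_six_pair (Ω := Ω) h1 h2 h3 h4 h5 h6 h7
  exact h.homog_of_orbit (by norm_num) _ a hga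

theorem four (A : AS G Ω T) (h : Hom G Ω 4) (hT : ∃ g : T, orderOf g = 4) : Homog G Ω (4 - 1) := by
  have := A.finG
  have := A.faithful
  obtain ⟨g, hg⟩ := hT
  exact homog_of_orderOf (a := 1) Nat.prime_two h (g := (g : G))
    (by rw [Subgroup.orderOf_coe, hg]; norm_num)

theorem eight (A : AS G Ω T) (h : Hom G Ω 8) (hT : ∃ g : T, orderOf g = 8) : Homog G Ω (8 - 1) := by
  have := A.finG
  have := A.faithful
  obtain ⟨g, hg⟩ := hT
  exact homog_of_orderOf (a := 2) Nat.prime_two h (g := (g : G))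
    (by rw [Subgroup.orderOf_coe, hg]; norm_num)

theorem prime (A : AS G Ω T) {p : ℕ} (hp : p.Prime) (h : Hom G Ω p) (hT : p ∣ Nat.card T) :
    Homog G Ω (p - 1) := by
  have := A.finG
  have := A.faithful
  exact homog_of_prime_dvd hp h (hT.trans (Subgroup.card_subgroup_dvd_card T))

theorem orderOf_transfer {X Y : Type*} [Group X] [Group Y] (e : X ≃* Y) {n : ℕ}
    (h : ∃ g : Y, orderOf g = n) : ∃ g : X, orderOf g = n := by
  obtain ⟨g, hg⟩ := h
  exact ⟨e.symm g, by rw [← hg]; exact orderOf_injective e.symm.toMonoidHom e.symm.injective g⟩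

theorem SixPair.transfer {X Y : Type*} [Group X] [Group Y] (e : X ≃* Y) (h : SixPair Y) : SixPair X :=
  h.map e.symm.toMonoidHom e.symm.injective

theorem card_M11 : Nat.card Spor.M11 = 7920 := by
  have h1 := Cfsg.Agent.S0387.result _ KUtMain.squareDodecad_mem (some 0)
    (by rw [mem_sqD]; decide +kernel)
  rw [← h1]
  refine Nat.card_congr ⟨fun g => ⟨⟨g, g.2.1.1⟩, Subgroup.mem_inf.2 ⟨g.2.1.2, g.2.2⟩⟩,
    fun g => ⟨((g : Cfsg.M24) : Equiv.Perm Cfsg.GolayPt),
      ⟨⟨(g : Cfsg.M24).2, (Subgroup.mem_inf.1 g.2).1⟩, (Subgroup.mem_inf.1 g.2).2⟩⟩, fun _ => rfl, fun _ => rfl⟩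

/-- `M₁₁` in degrees 11 and 12, `M₁₂` in degree 12. -/
theorem row_small (A : AS G Ω T) (hn : Fintype.card Ω ≤ 12) (h4 : ∃ g : T, orderOf g = 4)
    (h5 : 5 ∣ Nat.card T) (h6 : SixPair T) {k : ℕ} (hk : 4 ≤ k) (h2k : 2 * k ≤ Fintype.card Ω + 1)
    (h : Hom G Ω k) : Homog G Ω (k - 1) := by
  rcases (show k = 4 ∨ k = 5 ∨ k = 6 by omega) with rfl | rfl | rfl
  · exact four A h h4
  · exact prime A (by norm_num) h h5
  · exact six A h h6

theorem four_M12 : ∃ g : Spor.M12, orderOf g = 4 := by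
  obtain ⟨g, hg⟩ := four_M11
  exact ⟨Subgroup.inclusion inf_le_left g, by
    rw [← hg]; exact orderOf_injective _ (Subgroup.inclusion_injective _) g⟩

theorem row_m11 (A : AS G Ω T) (hT : Spor.IsoM11 T) (hn : Nat.card Ω = 11 ∨ Nat.card Ω = 12) {k : ℕ}
    (hk : 4 ≤ k) (h2k : 2 * k ≤ Fintype.card Ω + 1) (h : Hom G Ω k) : Homog G Ω (k - 1) := by
  obtain ⟨e⟩ := hT
  rw [Nat.card_eq_fintype_card] at hn
  exact row_small A (by omega) (orderOf_transfer e four_M11)
    (by rw [Nat.card_congr e.toEquiv, card_M11]; norm_num) (SixPair.transfer e pair_M11) hk h2k h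

theorem row_m12 (A : AS G Ω T) (hT : Spor.IsoM12 T) (hn : Nat.card Ω = 12) {k : ℕ}
    (hk : 4 ≤ k) (h2k : 2 * k ≤ Fintype.card Ω + 1) (h : Hom G Ω k) : Homog G Ω (k - 1) := by
  obtain ⟨e⟩ := hT
  rw [Nat.card_eq_fintype_card] at hn
  exact row_small A (by omega) (orderOf_transfer e four_M12)
    (by rw [Nat.card_congr e.toEquiv, KUtMain.card_M12]; norm_num)
    (SixPair.transfer e pair_M12) hk h2k h

theorem dvd_card_of_orbits {X : Type*} [Group X] {Y : Type*} [Finite Y] [MulAction X Y] {m : ℕ}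
    (h : ∀ y : Y, m ∣ (orbit X y).ncard) : m ∣ Nat.card Y := by
  classical
  have := Fintype.ofFinite Y
  have := Fintype.ofFinite (orbitRel.Quotient X Y)
  rw [Nat.card_congr (MulAction.selfEquivSigmaOrbits X Y), Nat.card_sigma]
  apply Finset.dvd_sum
  intro q _
  rw [Nat.card_coe_set_eq]
  exact h _

/-- the 2-adic argument for `M₂₂` -/
theorem kill_m22 (A : AS G Ω T) (hG : Nat.card G = 443520 ∨ Nat.card G = 887040)
    (hn : Fintype.card Ω = 22) {k : ℕ} (hk : k = 9 ∨ k = 10) (h : Hom G Ω k) : False := by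
  have := A.finG
  have key : ∀ I : Finset Ω, I.card = k - 1 → 16 ∣ (orbit G I).ncard := by
    intro I hI
    have h1 := h.choose_le_orbit (by omega) (by omega) hI
    have h2 : (orbit G I).ncard * Nat.card (stabilizer G I) = Nat.card G := by
      rw [← index_stabilizer]
      exact Subgroup.index_mul_card _
    rw [hn] at h1
    generalize (orbit G I).ncard = a at h1 h2 ⊢
    generalize Nat.card (stabilizer G I) = b at h2
    rcases hk with rfl | rfl
    · rw [show Nat.choose 22 (9 - 1) = 319770 by decide +kernel] at h1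
      have hb : b ≤ 24 := by
        by_contra hcon
        have : a * 25 ≤ a * b := Nat.mul_le_mul_left _ (by omega)
        omega
      rcases hG with hG | hG <;> rw [hG] at h2
      · have hb : b ≤ 12 := by
          by_contra hcon
          have : a * 13 ≤ a * b := Nat.mul_le_mul_left _ (by omega)
          omega
        interval_cases b <;> (clear * - h2; omega)
      · interval_cases b <;> (clear * - h2; omega)
    · rw [show Nat.choose 22 (10 - 1) = 497420 by decide +kernel] at h1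
      have hb : b ≤ 17 := by
        by_contra hcon
        have : a * 18 ≤ a * b := Nat.mul_le_mul_left _ (by omega)
        omega
      rcases hG with hG | hG <;> rw [hG] at h2
      · have hb : b ≤ 8 := by
          by_contra hcon
          have : a * 9 ≤ a * b := Nat.mul_le_mul_left _ (by omega)
          omega
        interval_cases b <;> (clear * - h2; omega)
      · interval_cases b <;> (clear * - h2; omega)
  have h3 : 16 ∣ Nat.card (Set.powersetCard Ω (k - 1)) := by
    apply dvd_card_of_orbits (X := G)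
    intro y
    have h4 := key y.1 y.2
    have h5 : (orbit G y).ncard = (orbit G y.1).ncard := by
      have : orbit G y.1 = Subtype.val '' (orbit G y) := by
        ext z
        constructor
        · rintro ⟨g, rfl⟩
          exact ⟨g • y, ⟨g, rfl⟩, rfl⟩
        · rintro ⟨_, ⟨g, rfl⟩, rfl⟩
          exact ⟨g, rfl⟩
      rw [this, Set.ncard_image_of_injective _ Subtype.val_injective]
    rw [h5]
    exact h4
  have h6 : Nat.card (Set.powersetCard Ω (k - 1)) = (Fintype.card Ω).choose (k - 1) := by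
    rw [Set.powersetCard.card, Nat.card_eq_fintype_card]
  rw [h6, hn] at h3
  rcases hk with rfl | rfl
  · rw [show Nat.choose 22 (9 - 1) = 319770 by decide +kernel] at h3
    omega
  · rw [show Nat.choose 22 (10 - 1) = 497420 by decide +kernel] at h3
    omega

theorem row_m22 (A : AS G Ω T) (hT : Spor.IsoM22 T) (hn : Nat.card Ω = 22) {k : ℕ}
    (hk : 4 ≤ k) (h2k : 2 * k ≤ Fintype.card Ω + 1) (h : Hom G Ω k) : Homog G Ω (k - 1) := by
  have := A.finG
  obtain ⟨e⟩ := hT
  have hc : Nat.card T = 443520 := by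
    rw [Nat.card_congr e.toEquiv, SporadicA.MathieuRecog.card_M22]
  rw [Nat.card_eq_fintype_card] at hn
  have h6 : SixPair T := SixPair.transfer e pair_M22
  have h4 : ∃ g : T, orderOf g = 4 := orderOf_transfer e four_M22
  have h8 : ∃ g : T, orderOf g = 8 := orderOf_transfer e eight_M22
  by_cases h910 : k = 9 ∨ k = 10
  · exfalso
    refine kill_m22 A ?_ hn h910 h
    have h1 := card_dvd_of_out A e
    rw [Cfsg.Agent.S2062.result, SporadicA.MathieuRecog.card_M22] at h1
    obtain ⟨c, hc'⟩ := Subgroup.card_subgroup_dvd_card T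
    rw [hc] at hc'
    rw [hc'] at h1 ⊢
    have h2 : c ∣ 2 := Nat.dvd_of_mul_dvd_mul_left (k := 443520) (by norm_num)
      (by rwa [mul_comm 2] at h1)
    rcases (Nat.dvd_prime Nat.prime_two).1 h2 with rfl | rfl
    · left; norm_num
    · right; norm_num
  · rcases (show k = 4 ∨ k = 5 ∨ k = 6 ∨ k = 7 ∨ k = 8 ∨ k = 11 by omega) with
      rfl | rfl | rfl | rfl | rfl | rfl
    · exact four A h h4
    · exact prime A (by norm_num) h (by rw [hc]; norm_num)
    · exact six A h h6
    · exact prime A (by norm_num) h (by rw [hc]; norm_num)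
    · exact eight A h h8
    · exact prime A (by norm_num) h (by rw [hc]; norm_num)

end Cfsg.Agent.H447.KRowMathieu
end

-- part: H447/KRowM23
section
/-!
# Rows `m23`, `m24` of S3564 (helper447): the actions are the natural ones
-/

set_option autoImplicit false
set_option linter.unusedSectionVars false

namespace Cfsg.Agent.H447.KRowM23

open MulAction Cfsg Cfsg.Agent.H397.KHom Cfsg.Agent.H384.TwoTrans Cfsg.Agent.H391.KOrb
open Cfsg.Agent.H447.KRowTools Cfsg.Agent.H447.MElems Cfsg.Agent.H447.KRowSmall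
open Cfsg.Agent.H447.KRowMathieu Cfsg.Agent.Golay.Orbit
open scoped Pointwise

theorem card_pt : Nat.card GolayPt = 24 := by
  rw [Nat.card_eq_fintype_card]; decide

/-- the pointwise stabiliser of five points has order 48 -/
theorem card_fix_five {s : Finset GolayPt} (hs : s.card = 5) :
    Nat.card (fixingSubgroup M24 (s : Set GolayPt)) = 48 := by
  have hs5' : (s : Set GolayPt).ncard = 5 := by rw [Set.ncard_coe_finset, hs]
  have h1 := S0366.result.index_of_fixingSubgroup_mul hs5'
  rw [card_pt] at h1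
  have h2 : (fixingSubgroup M24 (s : Set GolayPt)).index = 24 * 23 * 22 * 21 * 20 := by
    apply Nat.eq_of_mul_eq_mul_right (Nat.factorial_pos (24 - 5))
    rw [h1]
    decide +kernel
  have h3 := (fixingSubgroup M24 (s : Set GolayPt)).card_mul_index
  rw [h2, S0364.result] at h3
  omega

/-- An element of prime order not dividing 48 fixes at most four points. -/
theorem fix_lt_five {g : Equiv.Perm GolayPt} (hg : g ∈ M24) {p : ℕ} (hp : p.Prime) (hpg : orderOf g = p)
    (h48 : ¬ p ∣ 48) : (Finset.univ.filter fun x => g x = x).card < 5 := by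
  by_contra hcon
  push Not at hcon
  obtain ⟨s, hs, hs5⟩ := Finset.exists_subset_card_eq hcon
  have hmem : (⟨g, hg⟩ : M24) ∈ fixingSubgroup M24 (s : Set GolayPt) := by
    rw [mem_fixingSubgroup_iff]
    intro y hy
    exact (Finset.mem_filter.1 (hs hy)).2
  have h1 : orderOf (⟨⟨g, hg⟩, hmem⟩ : fixingSubgroup M24 (s : Set GolayPt)) = p := by
    rw [← hpg, Subgroup.orderOf_mk, Subgroup.orderOf_mk]
  have h2 := orderOf_dvd_natCard (⟨⟨g, hg⟩, hmem⟩ : fixingSubgroup M24 (s : Set GolayPt))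
  rw [h1, card_fix_five hs5] at h2
  exact h48 h2

/-- Fixed points of an element of prime order on an invariant set, modulo the prime. -/
theorem card_modEq {g : Equiv.Perm GolayPt} {p : ℕ} (hp : p.Prime) (hpg : orderOf g = p)
    (S : Finset GolayPt) (hS : ∀ x ∈ S, g x ∈ S) :
    S.card ≡ (S.filter fun x => g x = x).card [MOD p] := by
  classical
  have hfp : Fact p.Prime := ⟨hp⟩
  -- restrict to the subtype
  have hS' : ∀ x, x ∈ S ↔ g x ∈ S := by
    intro x
    refine ⟨hS x, fun h => ?_⟩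
    have hb : S.map g.toEmbedding = S := by
      apply Finset.eq_of_subset_of_card_le
      · intro y hy
        obtain ⟨z, hz, rfl⟩ := Finset.mem_map.1 hy
        exact hS z hz
      · rw [Finset.card_map]
    rw [← hb] at h
    obtain ⟨z, hz, hzx⟩ := Finset.mem_map.1 h
    rwa [← g.injective hzx]
  let τ : Equiv.Perm S := g.subtypePerm fun x => (hS' x).symm
  have hpow : ∀ (n : ℕ) (x : S), (((τ ^ n) x : S) : GolayPt) = (g ^ n) x := by
    intro n
    induction n with
    | zero => intro x; rfl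
    | succ n ih => intro x; rw [pow_succ', pow_succ', Equiv.Perm.mul_apply, Equiv.Perm.mul_apply, ← ih]; rfl
  have hτ : τ ^ p = 1 := by
    apply Equiv.ext
    intro x
    apply Subtype.ext
    rw [hpow, ← hpg, pow_orderOf_eq_one]
    rfl
  have hP : IsPGroup p (Subgroup.zpowers τ) := by
    have h1 : orderOf τ ∣ p := orderOf_dvd_of_pow_eq_one hτ
    have h2 : Nat.card (Subgroup.zpowers τ) ∣ p ^ 1 := by rw [Nat.card_zpowers, pow_one]; exact h1
    obtain ⟨k, -, hk⟩ := (Nat.dvd_prime_pow hp).1 h2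
    exact IsPGroup.of_card hk
  have h3 := hP.card_modEq_card_fixedPoints (α := S)
  have h4 : Nat.card (fixedPoints (Subgroup.zpowers τ) S) = (S.filter fun x => g x = x).card := by
    rw [← Fintype.card_coe, ← Nat.card_eq_fintype_card]
    have hfix : ∀ y : S, g y = y → y ∈ fixedPoints (Subgroup.zpowers τ) S := by
      intro y hy
      have h5 : Subgroup.zpowers τ ≤ stabilizer (Equiv.Perm S) y := by
        rw [Subgroup.zpowers_le]
        exact Subtype.ext hy
      rintro ⟨m, hm⟩
      exact h5 hm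
    exact Nat.card_congr
      { toFun := fun z => ⟨z.1.1, Finset.mem_filter.2 ⟨z.1.2,
          congrArg Subtype.val (z.2 ⟨τ, Subgroup.mem_zpowers τ⟩)⟩⟩
        invFun := fun x => ⟨⟨x.1, (Finset.mem_filter.1 x.2).1⟩, hfix _ (Finset.mem_filter.1 x.2).2⟩
        left_inv := fun _ => rfl
        right_inv := fun _ => rfl }
  rw [h4, Nat.card_eq_fintype_card, Fintype.card_coe] at h3
  exact h3

/-- A subgroup of `M₂₃` of index 23 fixes a second point. -/
theorem fixes_point (X : Subgroup (Equiv.Perm GolayPt)) (hX : X ≤ Spor.M23)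
    (hc : Nat.card X = 443520) : ∃ p : GolayPt, p ≠ none ∧ ∀ g ∈ X, g p = p := by
  classical
  have hX24 : X ≤ M24 := hX.trans inf_le_left
  have hnone : ∀ g ∈ X, g none = none := fun g hg => (Subgroup.mem_inf.1 (hX hg)).2
  have hfp11 : Fact (Nat.Prime 11) := ⟨by norm_num⟩
  have hfp7 : Fact (Nat.Prime 7) := ⟨by norm_num⟩
  obtain ⟨z, hz⟩ := exists_prime_orderOf_dvd_card' (G := X) 11 (by rw [hc]; norm_num)
  obtain ⟨y, hy⟩ := exists_prime_orderOf_dvd_card' (G := X) 7 (by rw [hc]; norm_num)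
  rw [← Subgroup.orderOf_coe] at hz hy
  have hu : (Finset.univ : Finset GolayPt).card = 24 := by rw [Finset.card_univ]; decide
  have hz5 := fix_lt_five (hX24 z.2) (by norm_num) hz (by norm_num)
  have hy5 := fix_lt_five (hX24 y.2) (by norm_num) hy (by norm_num)
  have hz2 := card_modEq (p := 11) (by norm_num) hz Finset.univ (fun x _ => Finset.mem_univ _)
  rw [hu] at hz2
  have hz3 : (Finset.univ.filter fun x => (z : Equiv.Perm GolayPt) x = x).card = 2 := by
    have : 24 % 11 = (Finset.univ.filter fun x => (z : Equiv.Perm GolayPt) x = x).card % 11 := hz2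
    omega
  have hzn : none ∈ Finset.univ.filter fun x => (z : Equiv.Perm GolayPt) x = x :=
    Finset.mem_filter.2 ⟨Finset.mem_univ _, hnone _ z.2⟩
  obtain ⟨p, hp⟩ := Finset.card_eq_one.1 (show
    ((Finset.univ.filter fun x => (z : Equiv.Perm GolayPt) x = x).erase none).card = 1 by
      rw [Finset.card_erase_of_mem hzn, hz3])
  have hpm : p ∈ (Finset.univ.filter fun x => (z : Equiv.Perm GolayPt) x = x).erase none := by
    rw [hp]; exact Finset.mem_singleton_self p
  have hpn : p ≠ none := (Finset.mem_erase.1 hpm).1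
  have hzp : (z : Equiv.Perm GolayPt) p = p := (Finset.mem_filter.1 (Finset.mem_erase.1 hpm).2).2
  -- the orbit of `p`
  set O : Finset GolayPt := (Set.toFinite (orbit X p)).toFinset with hO
  have hmem : ∀ x, x ∈ O ↔ x ∈ orbit X p := fun x => by rw [hO, Set.Finite.mem_toFinset]
  have hpO : p ∈ O := (hmem p).2 (mem_orbit_self p)
  have hinv : ∀ g ∈ X, ∀ x ∈ O, g x ∈ O := by
    intro g hg x hx
    rw [hmem] at hx ⊢
    exact MulAction.mem_orbit_of_mem_orbit (⟨g, hg⟩ : X) hx
  have hnO : none ∉ O := by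
    intro h
    rw [hmem] at h
    obtain ⟨g, hg⟩ := h
    have h1 : (g : Equiv.Perm GolayPt) p = none := hg
    exact hpn ((g : Equiv.Perm GolayPt).injective (h1.trans (hnone _ g.2).symm))
  have hOcard : O.card ∣ 443520 := by
    rw [hO, ← Set.ncard_eq_toFinset_card, ← index_stabilizer, ← hc]
    exact Subgroup.index_dvd_card _
  have h1 := card_modEq (p := 11) (by norm_num) hz O (hinv _ z.2)
  have h2 : O.filter (fun x => (z : Equiv.Perm GolayPt) x = x) = {p} := by
    ext x
    rw [Finset.mem_filter, Finset.mem_singleton]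
    constructor
    · rintro ⟨hxO, hx⟩
      have : x ∈ (Finset.univ.filter fun x => (z : Equiv.Perm GolayPt) x = x).erase none :=
        Finset.mem_erase.2 ⟨fun h => hnO (h ▸ hxO), Finset.mem_filter.2 ⟨Finset.mem_univ _, hx⟩⟩
      rw [hp] at this
      exact Finset.mem_singleton.1 this
    · rintro rfl
      exact ⟨hpO, hzp⟩
  rw [h2, Finset.card_singleton] at h1
  have h3 : O.card ≤ 24 := by rw [← hu]; exact Finset.card_le_univ O
  have h4 : O.card = 1 ∨ O.card = 12 ∨ O.card = 23 := by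
    have : O.card % 11 = 1 % 11 := h1
    omega
  rcases h4 with h4 | h4 | h4
  · refine ⟨p, hpn, fun g hg => ?_⟩
    obtain ⟨q, hq⟩ := Finset.card_eq_one.1 h4
    have h5 := hinv g hg p hpO
    rw [hq, Finset.mem_singleton] at h5 hpO
    rw [h5, hpO]
  · exfalso
    have h5 := card_modEq (p := 7) (by norm_num) hy Oᶜ (by
      intro x hx
      rw [Finset.mem_compl] at hx ⊢
      intro h
      apply hx
      have h6 := hinv _ (X.inv_mem y.2) _ h
      simpa using h6)
    rw [Finset.card_compl, ← Finset.card_univ, hu, h4] at h5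
    have h6 : (Oᶜ.filter fun x => (y : Equiv.Perm GolayPt) x = x).card < 5 :=
      (Finset.card_le_card (Finset.filter_subset_filter _ (Finset.subset_univ _))).trans_lt hy5
    have h7 : (24 - 12) % 7 = (Oᶜ.filter fun x => (y : Equiv.Perm GolayPt) x = x).card % 7 := h5
    omega
  · exfalso
    rw [h4] at hOcard
    norm_num at hOcard

/-- The stabiliser of a second point in `M₂₃`. -/
theorem mem_iff (X : Subgroup (Equiv.Perm GolayPt)) (hX : X ≤ Spor.M23) (hc : Nat.card X = 443520)
    {p : GolayPt} (hp : p ≠ none) (hfix : ∀ g ∈ X, g p = p) (g : Equiv.Perm GolayPt)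
    (hg : g ∈ Spor.M23) : g ∈ X ↔ g p = p := by
  refine ⟨hfix g, fun h => ?_⟩
  have h1 : X ≤ Spor.M23 ⊓ stabilizer (Equiv.Perm GolayPt) p := fun x hx => ⟨hX hx, hfix x hx⟩
  have h2 : Nat.card (Spor.M23 ⊓ stabilizer (Equiv.Perm GolayPt) p : Subgroup (Equiv.Perm GolayPt)) =
      443520 := by
    rw [← Cfsg.Agent.S0378.result none p hp.symm]
    exact Nat.card_congr
      { toFun := fun g => ⟨⟨g, (Subgroup.mem_inf.1 g.2.1).1⟩,
          Subgroup.mem_inf.2 ⟨(Subgroup.mem_inf.1 g.2.1).2, g.2.2⟩⟩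
        invFun := fun g => ⟨((g : M24) : Equiv.Perm GolayPt),
          ⟨Subgroup.mem_inf.2 ⟨(g : M24).2, (Subgroup.mem_inf.1 g.2).1⟩, (Subgroup.mem_inf.1 g.2).2⟩⟩
        left_inv := fun _ => rfl
        right_inv := fun _ => rfl }
  have h3 : X = Spor.M23 ⊓ stabilizer (Equiv.Perm GolayPt) p :=
    Subgroup.eq_of_le_of_card_ge h1 (by rw [h2, hc])
  rw [h3]
  exact ⟨hg, h⟩

/-- Two transitive actions with the same point stabiliser. -/
theorem exists_equivariant {S Ω Y : Type*} [Group S] [MulAction S Ω] [IsPretransitive S Ω]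
    {M : Type*} [Group M] [MulAction M Y] (φ : S →* M) (ω : Ω) (p : Y)
    (h : ∀ s : S, s • ω = ω ↔ φ s • p = p) :
    ∃ e : Ω → Y, Function.Injective e ∧ (∀ s x, e (s • x) = φ s • e x) ∧ e ω = p := by
  classical
  have hex : ∀ x : Ω, ∃ s : S, s • ω = x := fun x => exists_smul_eq S ω x
  choose c hc using hex
  have key : ∀ s s' : S, s • ω = s' • ω ↔ φ s • p = φ s' • p := by
    intro s s'
    have h1 : s • ω = s' • ω ↔ (s'⁻¹ * s) • ω = ω := by
      rw [mul_smul, inv_smul_eq_iff]
    have h2 : φ s • p = φ s' • p ↔ φ (s'⁻¹ * s) • p = p := by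
      rw [map_mul, map_inv, mul_smul, inv_smul_eq_iff]
    rw [h1, h2, h]
  refine ⟨fun x => φ (c x) • p, ?_, ?_, ?_⟩
  · intro x y hxy
    have := (key _ _).2 hxy
    rwa [hc, hc] at this
  · intro s x
    show φ (c (s • x)) • p = φ s • φ (c x) • p
    rw [← mul_smul, ← map_mul, ← key, hc, mul_smul, hc]
  · show φ (c ω) • p = p
    rw [← h, hc]

universe u v

/-- the natural action of `M₂₃` is contained in the action -/
structure Nat23 (T : Type*) (Ω : Type*) [Group T] [MulAction T Ω] : Prop where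
  ex : ∃ e : Ω → GolayPt, Function.Injective e ∧ (∀ q ≠ none, ∃ ω, e ω = q) ∧
    ∀ g ∈ Spor.M23, ∃ t : T, ∀ ω, e (t • ω) = g (e ω)

theorem nat23_of_m23 {T Ω : Type*} [Group T] [Finite T] [MulAction T Ω] [IsPretransitive T Ω]
    (hT : Spor.IsoM23 T) (hn : Nat.card Ω = 23) : Nat23 T Ω := by
  classical
  have hfinΩ : Finite Ω := Nat.finite_of_card_ne_zero (by rw [hn]; norm_num)
  obtain ⟨φ⟩ := hT
  obtain ⟨ω⟩ : Nonempty Ω := (Nat.card_pos_iff.1 (by rw [hn]; norm_num)).1
  let ψ : T →* Equiv.Perm GolayPt := (Subgroup.subtype _).comp φ.toMonoidHom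
  have hψ : Function.Injective ψ := (Subgroup.subtype_injective _).comp φ.injective
  have hcT : Nat.card T = 10200960 := by
    rw [Nat.card_congr φ.toEquiv, SporadicA.MathieuRecog.card_M23]
  have hcS : Nat.card (stabilizer T ω) = 443520 := by
    have h1 := (stabilizer T ω).card_mul_index
    rw [index_stabilizer_of_transitive, hn, hcT] at h1
    omega
  set X := (stabilizer T ω).map ψ with hXdef
  have hXc : Nat.card X = 443520 := by
    rw [← hcS]
    exact (Nat.card_congr (Subgroup.equivMapOfInjective _ ψ hψ).toEquiv).symm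
  have hψ23 : ∀ t, ψ t ∈ Spor.M23 := fun t => (φ t).2
  have hX23 : X ≤ Spor.M23 := by
    rintro _ ⟨t, -, rfl⟩
    exact hψ23 t
  obtain ⟨p, hp, hfix⟩ := fixes_point X hX23 hXc
  have hiff : ∀ t : T, t • ω = ω ↔ ψ t • p = p := by
    intro t
    have h1 := mem_iff X hX23 hXc hp hfix (ψ t) (hψ23 t)
    rw [Equiv.Perm.smul_def, ← h1, hXdef]
    constructor
    · intro h
      exact ⟨t, h, rfl⟩
    · rintro ⟨t', ht', h⟩
      rw [← hψ h]
      exact ht'
  obtain ⟨e, he, hes, heω⟩ := exists_equivariant ψ ω p hiff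
  have hnn : ∀ x, e x ≠ none := by
    intro x h
    obtain ⟨t, rfl⟩ := exists_smul_eq T ω x
    rw [hes, heω, Equiv.Perm.smul_def] at h
    have h1 : ψ t none = none := (Subgroup.mem_inf.1 (hψ23 t)).2
    exact hp ((ψ t).injective (h.trans h1.symm))
  refine ⟨e, he, ?_, ?_⟩
  · have hfin := Fintype.ofFinite Ω
    have h1 : Finset.univ.image e = Finset.univ.erase none := by
      apply Finset.eq_of_subset_of_card_le
      · intro q hq
        obtain ⟨x, -, rfl⟩ := Finset.mem_image.1 hq
        exact Finset.mem_erase.2 ⟨hnn x, Finset.mem_univ _⟩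
      · rw [Finset.card_image_of_injective _ he, Finset.card_univ, ← Nat.card_eq_fintype_card, hn,
          Finset.card_erase_of_mem (Finset.mem_univ _)]
        decide
    intro q hq
    have h2 : q ∈ Finset.univ.image e := by
      rw [h1]
      exact Finset.mem_erase.2 ⟨hq, Finset.mem_univ _⟩
    obtain ⟨x, -, hx⟩ := Finset.mem_image.1 h2
    exact ⟨x, hx⟩
  · intro g hg
    refine ⟨φ.symm ⟨g, hg⟩, fun x => ?_⟩
    rw [hes]
    show ((φ (φ.symm ⟨g, hg⟩) : Spor.M23) : Equiv.Perm GolayPt) (e x) = g (e x)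
    rw [MulEquiv.apply_symm_apply]

theorem nat23_of_m24 {T Ω : Type*} [Group T] [Finite T] [MulAction T Ω] [FaithfulSMul T Ω]
    [IsPretransitive T Ω] (hT : Spor.IsoM24 T) (hn : Nat.card Ω = 24) : Nat23 T Ω := by
  classical
  have hfinΩ : Finite Ω := Nat.finite_of_card_ne_zero (by rw [hn]; norm_num)
  have hfin := Fintype.ofFinite Ω
  obtain ⟨φ⟩ := hT
  have hs : IsSimpleGroup T := φ.isSimpleGroup_congr.2 Cfsg.Agent.S0365.result
  have hc : Nat.card T = 244823040 := by rw [Nat.card_congr φ.toEquiv, Cfsg.Agent.S0364.result]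
  have hcd : Fintype.card Ω = 24 := by rw [← Nat.card_eq_fintype_card, hn]
  obtain ⟨e, he⟩ := MathieuLabel.m24_label hs hc hcd inferInstance
  choose s hsM hse using he
  have hinj : Function.Injective fun t : T => (⟨s t, hsM t⟩ : M24) := by
    intro t t' h
    have h1 : s t = s t' := congrArg Subtype.val h
    apply FaithfulSMul.eq_of_smul_eq_smul (α := Ω)
    intro x
    apply e.injective
    rw [hse, hse, h1]
  have hbij : Function.Bijective fun t : T => (⟨s t, hsM t⟩ : M24) :=
    (Nat.bijective_iff_injective_and_card _).2 ⟨hinj, by rw [hc, Cfsg.Agent.S0364.result]⟩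
  refine ⟨e, e.injective, fun q _ => e.surjective q, fun g hg => ?_⟩
  obtain ⟨t, ht⟩ := hbij.2 ⟨g, (Subgroup.mem_inf.1 hg).1⟩
  refine ⟨t, fun x => ?_⟩
  have h7 : s t = g := congrArg Subtype.val ht
  rw [hse, h7]

/-- evaluation of a word in two tables -/
def evalw (a b : List ℕ) : List Bool → ℕ → ℕ
  | [], i => i
  | true :: w, i => app a (evalw a b w i)
  | false :: w, i => app b (evalw a b w i)

/-- check of an orbit -/
def orbOK (a b : List ℕ) (ws : List (List Bool)) (L : List ℕ) : Bool :=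
  L.contains 0 && decide L.Nodup && decide (ws.map (fun w => evalw a b w 0) = L) &&
    L.all fun i => Nat.blt i 24 && L.contains (app a i) && L.contains (app b i)

theorem exists_orbit_of_tabs {T Ω : Type*} [Group T] [Finite T] [MulAction T Ω] (N : Nat23 T Ω)
    {a b : List ℕ} {ws : List (List Bool)} {L : List ℕ} (ha : chk a = true) (hb : chk b = true)
    (ha3 : app a 23 = 23) (hb3 : app b 23 = 23) (hL : orbOK a b ws L = true) :
    ∃ (H : Subgroup T) (ω : Ω), (orbit H ω).ncard = L.length := by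
  classical
  obtain ⟨e, he, hsur, hM⟩ := N.ex
  obtain ⟨x, hx, hxa⟩ := exists_elem a ha
  obtain ⟨y, hy, hyb⟩ := exists_elem b hb
  obtain ⟨s, hs⟩ := hM x (mem_M23 hx hxa ha3)
  obtain ⟨t, ht⟩ := hM y (mem_M23 hy hyb hb3)
  obtain ⟨ω, hω⟩ := hsur (some 0) (by simp)
  rw [orbOK, Bool.and_eq_true, Bool.and_eq_true, Bool.and_eq_true, decide_eq_true_eq,
    decide_eq_true_eq, List.all_eq_true, List.contains_iff_mem] at hL
  obtain ⟨⟨⟨h0, hnd⟩, hws⟩, hall⟩ := hL
  have hall' : ∀ i ∈ L, i < 24 ∧ app a i ∈ L ∧ app b i ∈ L := by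
    intro i hi
    have := hall i hi
    simp only [Bool.and_eq_true, List.contains_iff_mem] at this
    exact ⟨Nat.le_of_ble_eq_true this.1.1, this.1.2, this.2⟩
  set H := Subgroup.closure ({s, t} : Set T) with hH
  have hclo : ∀ h ∈ H, ∀ z : Ω, idx (e z) ∈ L → idx (e (h • z)) ∈ L := by
    intro h hh
    have h1 : h ∈ Submonoid.closure ({s, t} : Set T) := by
      rw [← Subgroup.closure_toSubmonoid_of_finite]
      exact hh
    clear hh
    induction h1 using Submonoid.closure_induction with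
    | mem u hu =>
      intro z hz
      rcases hu with rfl | rfl
      · rw [hs, hxa]; exact (hall' _ hz).2.1
      · rw [ht, hyb]; exact (hall' _ hz).2.2
    | one => intro z hz; rwa [one_smul]
    | mul u v _ _ hu hv => intro z hz; rw [mul_smul]; exact hu _ (hv _ hz)
  have hword : ∀ w : List Bool, ∃ h ∈ H, idx (e (h • ω)) = evalw a b w 0 := by
    intro w
    induction w with
    | nil => exact ⟨1, H.one_mem, by rw [one_smul, hω, idx_zero]; rfl⟩
    | cons c w ih =>
      obtain ⟨h, hh, hhe⟩ := ih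
      cases c with
      | true =>
        refine ⟨s * h, H.mul_mem (Subgroup.subset_closure (by simp)) hh, ?_⟩
        rw [mul_smul, hs, hxa, hhe]; rfl
      | false =>
        refine ⟨t * h, H.mul_mem (Subgroup.subset_closure (by simp)) hh, ?_⟩
        rw [mul_smul, ht, hyb, hhe]; rfl
  refine ⟨H, ω, ?_⟩
  have himg : (fun z => idx (e z)) '' (orbit H ω) = {i | i ∈ L} := by
    ext i
    constructor
    · rintro ⟨_, ⟨h, rfl⟩, rfl⟩
      exact hclo h.1 h.2 ω (by rw [hω, idx_zero]; exact h0)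
    · intro hi
      have hi' : i ∈ ws.map (fun w => evalw a b w 0) := by rw [hws]; exact hi
      obtain ⟨w, -, hw⟩ := List.mem_map.1 hi'
      obtain ⟨h, hh, hhe⟩ := hword w
      exact ⟨h • ω, ⟨⟨h, hh⟩, rfl⟩, by rw [← hw, ← hhe]⟩
  have hinj : Function.Injective fun z : Ω => idx (e z) := fun z z' h => he (idx_injective h)
  rw [← Set.ncard_image_of_injective _ hinj, himg]
  have : {i | i ∈ L} = (L.toFinset : Set ℕ) := by ext i; simp
  rw [this, Set.ncard_coe_finset, List.toFinset_card_of_nodup hnd]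

/-- tables for the orbits of length 9, 10 and 12 -/
def a9 : List ℕ := [19, 18, 9, 4, 5, 3, 6, 1, 8, 12, 0, 15, 2, 16, 14, 21, 22, 17, 7, 10, 20, 11, 13, 23]
def b9 : List ℕ := [12, 7, 3, 19, 10, 0, 14, 18, 6, 4, 9, 11, 5, 16, 8, 15, 22, 17, 1, 2, 20, 21, 13, 23]
def w9 : List (List Bool) := [[], [false, true], [false, false, true], [false, false, true, true],
  [false, false], [false, true, true], [true, true], [false], [true]]
def a10 : List ℕ := [20, 1, 19, 9, 10, 5, 18, 14, 8, 3, 4, 15, 12, 13, 7, 11, 21, 17, 6, 2, 0, 16, 22, 23]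
def b10 : List ℕ := [16, 13, 0, 3, 1, 14, 6, 17, 9, 18, 11, 15, 12, 4, 19, 10, 2, 21, 8, 5, 20, 7, 22, 23]
def w10 : List (List Bool) := [[], [false, false], [false, true, false, false],
  [false, true, false], [true, false, true, false], [false], [false, false, true, false],
  [true, false, false], [true], [true, false]]
def a12 : List ℕ := [0, 5, 14, 3, 10, 1, 18, 19, 12, 9, 4, 21, 8, 13, 2, 16, 15, 17, 6, 7, 20, 11, 22, 23]
def b12 : List ℕ := [12, 1, 8, 5, 4, 22, 0, 18, 19, 9, 10, 20, 6, 16, 13, 7, 14, 17, 15, 2, 21, 11, 3, 23]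
def w12 : List (List Bool) := [[], [false, false, true, false], [false, false],
  [true, false, true, false], [true, false], [false], [false, true, false, false, true, false],
  [true, false, false, true, false], [false, true, false, false], [true, false, true, false, false],
  [true, false, false], [false, true, false]]

theorem orbits {T Ω : Type*} [Group T] [Finite T] [MulAction T Ω] (N : Nat23 T Ω) {k : ℕ}
    (hk : k = 9 ∨ k = 10 ∨ k = 12) : ∃ (H : Subgroup T) (ω : Ω), (orbit H ω).ncard = k := by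
  rcases hk with rfl | rfl | rfl
  · exact exists_orbit_of_tabs N (a := a9) (b := b9) (ws := w9)
      (L := [0, 2, 3, 4, 5, 9, 10, 12, 19]) (by decide +kernel) (by decide +kernel)
      (by decide +kernel) (by decide +kernel) (by decide +kernel)
  · exact exists_orbit_of_tabs N (a := a10) (b := b10) (ws := w10)
      (L := [0, 2, 5, 7, 14, 16, 17, 19, 20, 21]) (by decide +kernel) (by decide +kernel)
      (by decide +kernel) (by decide +kernel) (by decide +kernel)
  · exact exists_orbit_of_tabs N (a := a12) (b := b12) (ws := w12)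
      (L := [0, 2, 6, 7, 8, 12, 13, 14, 15, 16, 18, 19]) (by decide +kernel) (by decide +kernel)
      (by decide +kernel) (by decide +kernel) (by decide +kernel)

variable {G : Type u} {Ω : Type v} [Group G] [MulAction G Ω] {T : Subgroup G} [DecidableEq Ω] [Fintype Ω]

theorem homog_of_sub {k : ℕ} (hk : 1 ≤ k) (h : Hom G Ω k)
    (ho : ∃ (H : Subgroup T) (ω : Ω), (orbit H ω).ncard = k) : Homog G Ω (k - 1) := by
  obtain ⟨H, ω, hH⟩ := ho
  refine h.homog_of_orbit hk (H.map T.subtype) ω ?_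
  rw [← hH]
  congr 1
  ext x
  constructor
  · rintro ⟨⟨_, ⟨t, ht, rfl⟩⟩, rfl⟩
    exact ⟨⟨t, ht⟩, rfl⟩
  · rintro ⟨⟨t, ht⟩, rfl⟩
    exact ⟨⟨t, ⟨t, ht, rfl⟩⟩, rfl⟩

theorem four_M23 : ∃ g : Spor.M23, orderOf g = 4 := by
  obtain ⟨g, hg⟩ := four_M22
  exact ⟨Subgroup.inclusion inf_le_left g, by
    rw [← hg]; exact orderOf_injective _ (Subgroup.inclusion_injective _) g⟩

theorem eight_M23 : ∃ g : Spor.M23, orderOf g = 8 := by
  obtain ⟨g, hg⟩ := eight_M22
  exact ⟨Subgroup.inclusion inf_le_left g, by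
    rw [← hg]; exact orderOf_injective _ (Subgroup.inclusion_injective _) g⟩

theorem four_M24 : ∃ g : M24, orderOf g = 4 := by
  obtain ⟨g, hg⟩ := four_M23
  exact ⟨Subgroup.inclusion inf_le_left g, by
    rw [← hg]; exact orderOf_injective _ (Subgroup.inclusion_injective _) g⟩

theorem eight_M24 : ∃ g : M24, orderOf g = 8 := by
  obtain ⟨g, hg⟩ := eight_M23
  exact ⟨Subgroup.inclusion inf_le_left g, by
    rw [← hg]; exact orderOf_injective _ (Subgroup.inclusion_injective _) g⟩

theorem row_big (A : AS G Ω T) (hn : Fintype.card Ω ≤ 24) (h4 : ∃ g : T, orderOf g = 4)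
    (h8 : ∃ g : T, orderOf g = 8) (h5 : 5 ∣ Nat.card T) (h7 : 7 ∣ Nat.card T)
    (h11 : 11 ∣ Nat.card T) (h6 : SixPair T) (N : Nat23 T Ω) {k : ℕ} (hk : 4 ≤ k)
    (h2k : 2 * k ≤ Fintype.card Ω + 1) (h : Hom G Ω k) : Homog G Ω (k - 1) := by
  have := A.finG
  by_cases h9 : k = 9 ∨ k = 10 ∨ k = 12
  · exact homog_of_sub (by omega) h (orbits N h9)
  · rcases (show k = 4 ∨ k = 5 ∨ k = 6 ∨ k = 7 ∨ k = 8 ∨ k = 11 by (clear * - hn hk h2k h9; omega)) with
      rfl | rfl | rfl | rfl | rfl | rfl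
    · exact four A h h4
    · exact prime A (by norm_num) h h5
    · exact six A h h6
    · exact prime A (by norm_num) h h7
    · exact eight A h h8
    · exact prime A (by norm_num) h h11

theorem row_m23 (A : AS G Ω T) (hT : Spor.IsoM23 T) (hn : Nat.card Ω = 23) {k : ℕ}
    (hk : 4 ≤ k) (h2k : 2 * k ≤ Fintype.card Ω + 1) (h : Hom G Ω k) : Homog G Ω (k - 1) := by
  have := A.finG
  have := Cfsg.Agent.H436.TT.trans_T A
  have N := nat23_of_m23 (T := T) (Ω := Ω) hT hn
  obtain ⟨e⟩ := hT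
  have hc : Nat.card T = 10200960 := by
    rw [Nat.card_congr e.toEquiv, SporadicA.MathieuRecog.card_M23]
  rw [Nat.card_eq_fintype_card] at hn
  exact row_big A (by omega) (orderOf_transfer e four_M23) (orderOf_transfer e eight_M23)
    (by rw [hc]; norm_num) (by rw [hc]; norm_num) (by rw [hc]; norm_num)
    (SixPair.transfer e pair_M23) N hk h2k h

theorem row_m24 (A : AS G Ω T) (hT : Spor.IsoM24 T) (hn : Nat.card Ω = 24) {k : ℕ}
    (hk : 4 ≤ k) (h2k : 2 * k ≤ Fintype.card Ω + 1) (h : Hom G Ω k) : Homog G Ω (k - 1) := by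
  have := A.finG
  have := Cfsg.Agent.H436.TT.trans_T A
  have := A.faithful
  have : FaithfulSMul T Ω := ⟨fun h => Subtype.ext (FaithfulSMul.eq_of_smul_eq_smul (α := Ω) h)⟩
  have N := nat23_of_m24 (T := T) (Ω := Ω) hT hn
  obtain ⟨e⟩ := hT
  have hc : Nat.card T = 244823040 := by
    rw [Nat.card_congr e.toEquiv, Cfsg.Agent.S0364.result]
  rw [Nat.card_eq_fintype_card] at hn
  exact row_big A (by omega) (orderOf_transfer e four_M24) (orderOf_transfer e eight_M24)
    (by rw [hc]; norm_num) (by rw [hc]; norm_num) (by rw [hc]; norm_num)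
    (SixPair.transfer e pair_M24) N hk h2k h

end Cfsg.Agent.H447.KRowM23
end

private theorem dce_9068eec75abe : _root_.True := by
  try have : _root_.True := by simp only [_root_.Matrix.ProjectiveSpecialLinearGroup.congr_simp]
  try have : _root_.True := by simp only [_root_.Cfsg.Agent.H447.KRowM23.orbOK.eq_1]
  exact _root_.True.intro
end
end
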